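import Cfsg.Agent.Lib.HeldType.Amalgam.He2.TabF0
import Cfsg.Agent.Lib.HeldType.Amalgam.He2.TabF1
import Cfsg.Agent.Lib.HeldType.Amalgam.He2.TabC0
import Cfsg.Agent.Lib.HeldType.Amalgam.He2.TabC1
import Cfsg.Agent.Lib.HeldType.Amalgam.He2.TabC2
import Cfsg.Agent.Lib.HeldType.Amalgam.He2.TabC3
import Cfsg.Agent.Lib.HeldType.Amalgam.He2.TabC4
import Cfsg.Agent.Lib.HeldType.Amalgam.He2.TabC5
import Cfsg.Agent.Lib.HeldType.Amalgam.He2.TabZ0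
import Cfsg.Agent.Lib.HeldType.Amalgam.He2.TabZ1
import Cfsg.Agent.Lib.HeldType.Amalgam.He2.TabP0
import Cfsg.Agent.Lib.HeldType.Amalgam.He2.TabP1
import Cfsg.Agent.Lib.CosetEnum.Defs

/-! Generated certificate. -/

set_option autoImplicit false
set_option maxRecDepth 20000

namespace Cfsg.Lib.HeldType.Amalgam.He2

open Cfsg.Lib.CosetEnum

/-- Table. -/
def tabF : Tab :=
  (.node 896 (.node 448 (.node 192 (.node 64 tabF_0 (.node 64 tabF_1 tabF_2)) (.node 128 (.node 64 tabF_3 tabF_4) (.node 64 tabF_5 tabF_6))) (.node 192 (.node 64 tabF_7 (.node 64 tabF_8 tabF_9)) (.node 128 (.node 64 tabF_10 tabF_11) (.node 64 tabF_12 tabF_13)))) (.node 448 (.node 192 (.node 64 tabF_14 (.node 64 tabF_15 tabF_16)) (.node 128 (.node 64 tabF_17 tabF_18) (.node 64 tabF_19 tabF_20))) (.node 192 (.node 64 tabF_21 (.node 64 tabF_22 tabF_23)) (.node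 128 (.node 64 tabF_24 tabF_25) (.node 64 tabF_26 tabF_27)))))

/-- Table. -/
def tabC : Tab :=
  (.node 42112 (.node 21056 (.node 10496 (.node 5248 (.node 2624 (.node 1280 (.node 640 (.node 320 (.node 128 (.node 64 tabC_0 tabC_1) (.node 64 tabC_2 (.node 64 tabC_3 tabC_4))) (.node 128 (.node 64 tabC_5 tabC_6) (.node 64 tabC_7 (.node 64 tabC_8 tabC_9)))) (.node 320 (.node 128 (.node 64 tabC_10 tabC_11) (.node 64 tabC_12 (.node 64 tabC_13 tabC_14))) (.node 128 (.node 64 tabC_15 tabC_16) (.node 64 tabC_17 (.node 64 tabC_18 tabC_19))))) (.node 640 (.node 320 (.node 128 (.node 64 tabC_20 tabC_21) (.node 64 tabC_22 (.node 64 tabC_23 tabC_24))) (.node 128 (.node 64 tabC_25 tabC_26) (.node 64 tabC_27 (.node 64 tabC_28 tabC_29)))) (.node 320 (.node 128 (.node 64 tabC_30 tabC_31) (.node 64 tabC_32 (.node 64 tabC_33 tabC_34))) (.node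 192 (.node 64 tabC_35 (.node 64 tabC_36 tabC_37)) (.node 64 tabC_38 (.node 64 tabC_39 tabC_40)))))) (.node 1280 (.node 640 (.node 320 (.node 128 (.node 64 tabC_41 tabC_42) (.node 64 tabC_43 (.node 64 tabC_44 tabC_45))) (.node 128 (.node 64 tabC_46 tabC_47) (.node 64 tabC_48 (.node 64 tabC_49 tabC_50)))) (.node 320 (.node 128 (.node 64 tabC_51 tabC_52) (.node 64 tabC_53 (.node 64 tabC_54 tabC_55))) (.node 128 (.node 64 tabC_56 tabC_57) (.node 64 tabC_58 (.node 64 tabC_59 tabC_60))))) (.node 640 (.node 320 (.node 128 (.node 64 tabC_61 tabC_62) (.node 64 tabC_63 (.node 64 tabC_64 tabC_65))) (.node 128 (.node 64 tabC_66 tabC_67) (.node 64 tabC_68 (.node 64 tabC_69 tabC_70)))) (.node 320 (.node 128 (.node 64 tabC_71 tabC_72) (.node 64 tabC_73 (.node 64 tabC_74 tabC_75))) (.node 192 (.node 64 tabC_76 (.node 64 tabC_77 tabC_78))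 (.node 64 tabC_79 (.node 64 tabC_80 tabC_81))))))) (.node 2624 (.node 1280 (.node 640 (.node 320 (.node 128 (.node 64 tabC_82 tabC_83) (.node 64 tabC_84 (.node 64 tabC_85 tabC_86))) (.node 128 (.node 64 tabC_87 tabC_88) (.node 64 tabC_89 (.node 64 tabC_90 tabC_91)))) (.node 320 (.node 128 (.node 64 tabC_92 tabC_93) (.node 64 tabC_94 (.node 64 tabC_95 tabC_96))) (.node 128 (.node 64 tabC_97 tabC_98) (.node 64 tabC_99 (.node 64 tabC_100 tabC_101))))) (.node 640 (.node 320 (.node 128 (.node 64 tabC_102 tabC_103) (.node 64 tabC_104 (.node 64 tabC_105 tabC_106))) (.node 128 (.node 64 tabC_107 tabC_108) (.node 64 tabC_109 (.node 64 tabC_110 tabC_111)))) (.node 320 (.node 128 (.node 64 tabC_112 tabC_113) (.node 64 tabC_114 (.node 64 tabC_115 tabC_116))) (.node 192 (.node 64 tabC_117 (.node 64 tabC_118 tabC_119)) (.node 64 tabC_120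 (.node 64 tabC_121 tabC_122)))))) (.node 1280 (.node 640 (.node 320 (.node 128 (.node 64 tabC_123 tabC_124) (.node 64 tabC_125 (.node 64 tabC_126 tabC_127))) (.node 128 (.node 64 tabC_128 tabC_129) (.node 64 tabC_130 (.node 64 tabC_131 tabC_132)))) (.node 320 (.node 128 (.node 64 tabC_133 tabC_134) (.node 64 tabC_135 (.node 64 tabC_136 tabC_137))) (.node 128 (.node 64 tabC_138 tabC_139) (.node 64 tabC_140 (.node 64 tabC_141 tabC_142))))) (.node 640 (.node 320 (.node 128 (.node 64 tabC_143 tabC_144) (.node 64 tabC_145 (.node 64 tabC_146 tabC_147))) (.node 128 (.node 64 tabC_148 tabC_149) (.node 64 tabC_150 (.node 64 tabC_151 tabC_152)))) (.node 320 (.node 128 (.node 64 tabC_153 tabC_154) (.node 64 tabC_155 (.node 64 tabC_156 tabC_157))) (.node 192 (.node 64 tabC_158 (.node 64 tabC_159 tabC_160)) (.node 64 tabC_161 (.node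 64 tabC_162 tabC_163)))))))) (.node 5248 (.node 2624 (.node 1280 (.node 640 (.node 320 (.node 128 (.node 64 tabC_164 tabC_165) (.node 64 tabC_166 (.node 64 tabC_167 tabC_168))) (.node 128 (.node 64 tabC_169 tabC_170) (.node 64 tabC_171 (.node 64 tabC_172 tabC_173)))) (.node 320 (.node 128 (.node 64 tabC_174 tabC_175) (.node 64 tabC_176 (.node 64 tabC_177 tabC_178))) (.node 128 (.node 64 tabC_179 tabC_180) (.node 64 tabC_181 (.node 64 tabC_182 tabC_183))))) (.node 640 (.node 320 (.node 128 (.node 64 tabC_184 tabC_185) (.node 64 tabC_186 (.node 64 tabC_187 tabC_188))) (.node 128 (.node 64 tabC_189 tabC_190) (.node 64 tabC_191 (.node 64 tabC_192 tabC_193)))) (.node 320 (.node 128 (.node 64 tabC_194 tabC_195) (.node 64 tabC_196 (.node 64 tabC_197 tabC_198))) (.node 192 (.node 64 tabC_199 (.node 64 tabC_200 tabC_201)) (.node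 64 tabC_202 (.node 64 tabC_203 tabC_204)))))) (.node 1280 (.node 640 (.node 320 (.node 128 (.node 64 tabC_205 tabC_206) (.node 64 tabC_207 (.node 64 tabC_208 tabC_209))) (.node 128 (.node 64 tabC_210 tabC_211) (.node 64 tabC_212 (.node 64 tabC_213 tabC_214)))) (.node 320 (.node 128 (.node 64 tabC_215 tabC_216) (.node 64 tabC_217 (.node 64 tabC_218 tabC_219))) (.node 128 (.node 64 tabC_220 tabC_221) (.node 64 tabC_222 (.node 64 tabC_223 tabC_224))))) (.node 640 (.node 320 (.node 128 (.node 64 tabC_225 tabC_226) (.node 64 tabC_227 (.node 64 tabC_228 tabC_229))) (.node 128 (.node 64 tabC_230 tabC_231) (.node 64 tabC_232 (.node 64 tabC_233 tabC_234)))) (.node 320 (.node 128 (.node 64 tabC_235 tabC_236) (.node 64 tabC_237 (.node 64 tabC_238 tabC_239))) (.node 192 (.node 64 tabC_240 (.node 64 tabC_241 tabC_242)) (.node 64 tabC_243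 (.node 64 tabC_244 tabC_245))))))) (.node 2624 (.node 1280 (.node 640 (.node 320 (.node 128 (.node 64 tabC_246 tabC_247) (.node 64 tabC_248 (.node 64 tabC_249 tabC_250))) (.node 128 (.node 64 tabC_251 tabC_252) (.node 64 tabC_253 (.node 64 tabC_254 tabC_255)))) (.node 320 (.node 128 (.node 64 tabC_256 tabC_257) (.node 64 tabC_258 (.node 64 tabC_259 tabC_260))) (.node 128 (.node 64 tabC_261 tabC_262) (.node 64 tabC_263 (.node 64 tabC_264 tabC_265))))) (.node 640 (.node 320 (.node 128 (.node 64 tabC_266 tabC_267) (.node 64 tabC_268 (.node 64 tabC_269 tabC_270))) (.node 128 (.node 64 tabC_271 tabC_272) (.node 64 tabC_273 (.node 64 tabC_274 tabC_275)))) (.node 320 (.node 128 (.node 64 tabC_276 tabC_277) (.node 64 tabC_278 (.node 64 tabC_279 tabC_280))) (.node 192 (.node 64 tabC_281 (.node 64 tabC_282 tabC_283)) (.node 64 tabC_284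 (.node 64 tabC_285 tabC_286)))))) (.node 1344 (.node 640 (.node 320 (.node 128 (.node 64 tabC_287 tabC_288) (.node 64 tabC_289 (.node 64 tabC_290 tabC_291))) (.node 128 (.node 64 tabC_292 tabC_293) (.node 64 tabC_294 (.node 64 tabC_295 tabC_296)))) (.node 320 (.node 128 (.node 64 tabC_297 tabC_298) (.node 64 tabC_299 (.node 64 tabC_300 tabC_301))) (.node 192 (.node 64 tabC_302 (.node 64 tabC_303 tabC_304)) (.node 64 tabC_305 (.node 64 tabC_306 tabC_307))))) (.node 640 (.node 320 (.node 128 (.node 64 tabC_308 tabC_309) (.node 64 tabC_310 (.node 64 tabC_311 tabC_312))) (.node 128 (.node 64 tabC_313 tabC_314) (.node 64 tabC_315 (.node 64 tabC_316 tabC_317)))) (.node 320 (.node 128 (.node 64 tabC_318 tabC_319) (.node 64 tabC_320 (.node 64 tabC_321 tabC_322))) (.node 192 (.node 64 tabC_323 (.node 64 tabC_324 tabC_325)) (.node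 64 tabC_326 (.node 64 tabC_327 tabC_328))))))))) (.node 10496 (.node 5248 (.node 2624 (.node 1280 (.node 640 (.node 320 (.node 128 (.node 64 tabC_329 tabC_330) (.node 64 tabC_331 (.node 64 tabC_332 tabC_333))) (.node 128 (.node 64 tabC_334 tabC_335) (.node 64 tabC_336 (.node 64 tabC_337 tabC_338)))) (.node 320 (.node 128 (.node 64 tabC_339 tabC_340) (.node 64 tabC_341 (.node 64 tabC_342 tabC_343))) (.node 128 (.node 64 tabC_344 tabC_345) (.node 64 tabC_346 (.node 64 tabC_347 tabC_348))))) (.node 640 (.node 320 (.node 128 (.node 64 tabC_349 tabC_350) (.node 64 tabC_351 (.node 64 tabC_352 tabC_353))) (.node 128 (.node 64 tabC_354 tabC_355) (.node 64 tabC_356 (.node 64 tabC_357 tabC_358)))) (.node 320 (.node 128 (.node 64 tabC_359 tabC_360) (.node 64 tabC_361 (.node 64 tabC_362 tabC_363))) (.node 192 (.node 64 tabC_364 (.node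 64 tabC_365 tabC_366)) (.node 64 tabC_367 (.node 64 tabC_368 tabC_369)))))) (.node 1280 (.node 640 (.node 320 (.node 128 (.node 64 tabC_370 tabC_371) (.node 64 tabC_372 (.node 64 tabC_373 tabC_374))) (.node 128 (.node 64 tabC_375 tabC_376) (.node 64 tabC_377 (.node 64 tabC_378 tabC_379)))) (.node 320 (.node 128 (.node 64 tabC_380 tabC_381) (.node 64 tabC_382 (.node 64 tabC_383 tabC_384))) (.node 128 (.node 64 tabC_385 tabC_386) (.node 64 tabC_387 (.node 64 tabC_388 tabC_389))))) (.node 640 (.node 320 (.node 128 (.node 64 tabC_390 tabC_391) (.node 64 tabC_392 (.node 64 tabC_393 tabC_394))) (.node 128 (.node 64 tabC_395 tabC_396) (.node 64 tabC_397 (.node 64 tabC_398 tabC_399)))) (.node 320 (.node 128 (.node 64 tabC_400 tabC_401) (.node 64 tabC_402 (.node 64 tabC_403 tabC_404))) (.node 192 (.node 64 tabC_405 (.node 64 tabC_406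 tabC_407)) (.node 64 tabC_408 (.node 64 tabC_409 tabC_410))))))) (.node 2624 (.node 1280 (.node 640 (.node 320 (.node 128 (.node 64 tabC_411 tabC_412) (.node 64 tabC_413 (.node 64 tabC_414 tabC_415))) (.node 128 (.node 64 tabC_416 tabC_417) (.node 64 tabC_418 (.node 64 tabC_419 tabC_420)))) (.node 320 (.node 128 (.node 64 tabC_421 tabC_422) (.node 64 tabC_423 (.node 64 tabC_424 tabC_425))) (.node 128 (.node 64 tabC_426 tabC_427) (.node 64 tabC_428 (.node 64 tabC_429 tabC_430))))) (.node 640 (.node 320 (.node 128 (.node 64 tabC_431 tabC_432) (.node 64 tabC_433 (.node 64 tabC_434 tabC_435))) (.node 128 (.node 64 tabC_436 tabC_437) (.node 64 tabC_438 (.node 64 tabC_439 tabC_440)))) (.node 320 (.node 128 (.node 64 tabC_441 tabC_442) (.node 64 tabC_443 (.node 64 tabC_444 tabC_445))) (.node 192 (.node 64 tabC_446 (.node 64 tabC_447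 tabC_448)) (.node 64 tabC_449 (.node 64 tabC_450 tabC_451)))))) (.node 1280 (.node 640 (.node 320 (.node 128 (.node 64 tabC_452 tabC_453) (.node 64 tabC_454 (.node 64 tabC_455 tabC_456))) (.node 128 (.node 64 tabC_457 tabC_458) (.node 64 tabC_459 (.node 64 tabC_460 tabC_461)))) (.node 320 (.node 128 (.node 64 tabC_462 tabC_463) (.node 64 tabC_464 (.node 64 tabC_465 tabC_466))) (.node 128 (.node 64 tabC_467 tabC_468) (.node 64 tabC_469 (.node 64 tabC_470 tabC_471))))) (.node 640 (.node 320 (.node 128 (.node 64 tabC_472 tabC_473) (.node 64 tabC_474 (.node 64 tabC_475 tabC_476))) (.node 128 (.node 64 tabC_477 tabC_478) (.node 64 tabC_479 (.node 64 tabC_480 tabC_481)))) (.node 320 (.node 128 (.node 64 tabC_482 tabC_483) (.node 64 tabC_484 (.node 64 tabC_485 tabC_486))) (.node 192 (.node 64 tabC_487 (.node 64 tabC_488 tabC_489))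 (.node 64 tabC_490 (.node 64 tabC_491 tabC_492)))))))) (.node 5248 (.node 2624 (.node 1280 (.node 640 (.node 320 (.node 128 (.node 64 tabC_493 tabC_494) (.node 64 tabC_495 (.node 64 tabC_496 tabC_497))) (.node 128 (.node 64 tabC_498 tabC_499) (.node 64 tabC_500 (.node 64 tabC_501 tabC_502)))) (.node 320 (.node 128 (.node 64 tabC_503 tabC_504) (.node 64 tabC_505 (.node 64 tabC_506 tabC_507))) (.node 128 (.node 64 tabC_508 tabC_509) (.node 64 tabC_510 (.node 64 tabC_511 tabC_512))))) (.node 640 (.node 320 (.node 128 (.node 64 tabC_513 tabC_514) (.node 64 tabC_515 (.node 64 tabC_516 tabC_517))) (.node 128 (.node 64 tabC_518 tabC_519) (.node 64 tabC_520 (.node 64 tabC_521 tabC_522)))) (.node 320 (.node 128 (.node 64 tabC_523 tabC_524) (.node 64 tabC_525 (.node 64 tabC_526 tabC_527))) (.node 192 (.node 64 tabC_528 (.node 64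 tabC_529 tabC_530)) (.node 64 tabC_531 (.node 64 tabC_532 tabC_533)))))) (.node 1280 (.node 640 (.node 320 (.node 128 (.node 64 tabC_534 tabC_535) (.node 64 tabC_536 (.node 64 tabC_537 tabC_538))) (.node 128 (.node 64 tabC_539 tabC_540) (.node 64 tabC_541 (.node 64 tabC_542 tabC_543)))) (.node 320 (.node 128 (.node 64 tabC_544 tabC_545) (.node 64 tabC_546 (.node 64 tabC_547 tabC_548))) (.node 128 (.node 64 tabC_549 tabC_550) (.node 64 tabC_551 (.node 64 tabC_552 tabC_553))))) (.node 640 (.node 320 (.node 128 (.node 64 tabC_554 tabC_555) (.node 64 tabC_556 (.node 64 tabC_557 tabC_558))) (.node 128 (.node 64 tabC_559 tabC_560) (.node 64 tabC_561 (.node 64 tabC_562 tabC_563)))) (.node 320 (.node 128 (.node 64 tabC_564 tabC_565) (.node 64 tabC_566 (.node 64 tabC_567 tabC_568))) (.node 192 (.node 64 tabC_569 (.node 64 tabC_570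 tabC_571)) (.node 64 tabC_572 (.node 64 tabC_573 tabC_574))))))) (.node 2624 (.node 1280 (.node 640 (.node 320 (.node 128 (.node 64 tabC_575 tabC_576) (.node 64 tabC_577 (.node 64 tabC_578 tabC_579))) (.node 128 (.node 64 tabC_580 tabC_581) (.node 64 tabC_582 (.node 64 tabC_583 tabC_584)))) (.node 320 (.node 128 (.node 64 tabC_585 tabC_586) (.node 64 tabC_587 (.node 64 tabC_588 tabC_589))) (.node 128 (.node 64 tabC_590 tabC_591) (.node 64 tabC_592 (.node 64 tabC_593 tabC_594))))) (.node 640 (.node 320 (.node 128 (.node 64 tabC_595 tabC_596) (.node 64 tabC_597 (.node 64 tabC_598 tabC_599))) (.node 128 (.node 64 tabC_600 tabC_601) (.node 64 tabC_602 (.node 64 tabC_603 tabC_604)))) (.node 320 (.node 128 (.node 64 tabC_605 tabC_606) (.node 64 tabC_607 (.node 64 tabC_608 tabC_609))) (.node 192 (.node 64 tabC_610 (.node 64 tabC_611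 tabC_612)) (.node 64 tabC_613 (.node 64 tabC_614 tabC_615)))))) (.node 1344 (.node 640 (.node 320 (.node 128 (.node 64 tabC_616 tabC_617) (.node 64 tabC_618 (.node 64 tabC_619 tabC_620))) (.node 128 (.node 64 tabC_621 tabC_622) (.node 64 tabC_623 (.node 64 tabC_624 tabC_625)))) (.node 320 (.node 128 (.node 64 tabC_626 tabC_627) (.node 64 tabC_628 (.node 64 tabC_629 tabC_630))) (.node 192 (.node 64 tabC_631 (.node 64 tabC_632 tabC_633)) (.node 64 tabC_634 (.node 64 tabC_635 tabC_636))))) (.node 640 (.node 320 (.node 128 (.node 64 tabC_637 tabC_638) (.node 64 tabC_639 (.node 64 tabC_640 tabC_641))) (.node 128 (.node 64 tabC_642 tabC_643) (.node 64 tabC_644 (.node 64 tabC_645 tabC_646)))) (.node 320 (.node 128 (.node 64 tabC_647 tabC_648) (.node 64 tabC_649 (.node 64 tabC_650 tabC_651))) (.node 192 (.node 64 tabC_652 (.node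 64 tabC_653 tabC_654)) (.node 64 tabC_655 (.node 64 tabC_656 tabC_657)))))))))) (.node 21056 (.node 10496 (.node 5248 (.node 2624 (.node 1280 (.node 640 (.node 320 (.node 128 (.node 64 tabC_658 tabC_659) (.node 64 tabC_660 (.node 64 tabC_661 tabC_662))) (.node 128 (.node 64 tabC_663 tabC_664) (.node 64 tabC_665 (.node 64 tabC_666 tabC_667)))) (.node 320 (.node 128 (.node 64 tabC_668 tabC_669) (.node 64 tabC_670 (.node 64 tabC_671 tabC_672))) (.node 128 (.node 64 tabC_673 tabC_674) (.node 64 tabC_675 (.node 64 tabC_676 tabC_677))))) (.node 640 (.node 320 (.node 128 (.node 64 tabC_678 tabC_679) (.node 64 tabC_680 (.node 64 tabC_681 tabC_682))) (.node 128 (.node 64 tabC_683 tabC_684) (.node 64 tabC_685 (.node 64 tabC_686 tabC_687)))) (.node 320 (.node 128 (.node 64 tabC_688 tabC_689) (.node 64 tabC_690 (.node 64 tabC_691 tabC_692)))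 (.node 192 (.node 64 tabC_693 (.node 64 tabC_694 tabC_695)) (.node 64 tabC_696 (.node 64 tabC_697 tabC_698)))))) (.node 1280 (.node 640 (.node 320 (.node 128 (.node 64 tabC_699 tabC_700) (.node 64 tabC_701 (.node 64 tabC_702 tabC_703))) (.node 128 (.node 64 tabC_704 tabC_705) (.node 64 tabC_706 (.node 64 tabC_707 tabC_708)))) (.node 320 (.node 128 (.node 64 tabC_709 tabC_710) (.node 64 tabC_711 (.node 64 tabC_712 tabC_713))) (.node 128 (.node 64 tabC_714 tabC_715) (.node 64 tabC_716 (.node 64 tabC_717 tabC_718))))) (.node 640 (.node 320 (.node 128 (.node 64 tabC_719 tabC_720) (.node 64 tabC_721 (.node 64 tabC_722 tabC_723))) (.node 128 (.node 64 tabC_724 tabC_725) (.node 64 tabC_726 (.node 64 tabC_727 tabC_728)))) (.node 320 (.node 128 (.node 64 tabC_729 tabC_730) (.node 64 tabC_731 (.node 64 tabC_732 tabC_733))) (.node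 192 (.node 64 tabC_734 (.node 64 tabC_735 tabC_736)) (.node 64 tabC_737 (.node 64 tabC_738 tabC_739))))))) (.node 2624 (.node 1280 (.node 640 (.node 320 (.node 128 (.node 64 tabC_740 tabC_741) (.node 64 tabC_742 (.node 64 tabC_743 tabC_744))) (.node 128 (.node 64 tabC_745 tabC_746) (.node 64 tabC_747 (.node 64 tabC_748 tabC_749)))) (.node 320 (.node 128 (.node 64 tabC_750 tabC_751) (.node 64 tabC_752 (.node 64 tabC_753 tabC_754))) (.node 128 (.node 64 tabC_755 tabC_756) (.node 64 tabC_757 (.node 64 tabC_758 tabC_759))))) (.node 640 (.node 320 (.node 128 (.node 64 tabC_760 tabC_761) (.node 64 tabC_762 (.node 64 tabC_763 tabC_764))) (.node 128 (.node 64 tabC_765 tabC_766) (.node 64 tabC_767 (.node 64 tabC_768 tabC_769)))) (.node 320 (.node 128 (.node 64 tabC_770 tabC_771) (.node 64 tabC_772 (.node 64 tabC_773 tabC_774)))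 (.node 192 (.node 64 tabC_775 (.node 64 tabC_776 tabC_777)) (.node 64 tabC_778 (.node 64 tabC_779 tabC_780)))))) (.node 1280 (.node 640 (.node 320 (.node 128 (.node 64 tabC_781 tabC_782) (.node 64 tabC_783 (.node 64 tabC_784 tabC_785))) (.node 128 (.node 64 tabC_786 tabC_787) (.node 64 tabC_788 (.node 64 tabC_789 tabC_790)))) (.node 320 (.node 128 (.node 64 tabC_791 tabC_792) (.node 64 tabC_793 (.node 64 tabC_794 tabC_795))) (.node 128 (.node 64 tabC_796 tabC_797) (.node 64 tabC_798 (.node 64 tabC_799 tabC_800))))) (.node 640 (.node 320 (.node 128 (.node 64 tabC_801 tabC_802) (.node 64 tabC_803 (.node 64 tabC_804 tabC_805))) (.node 128 (.node 64 tabC_806 tabC_807) (.node 64 tabC_808 (.node 64 tabC_809 tabC_810)))) (.node 320 (.node 128 (.node 64 tabC_811 tabC_812) (.node 64 tabC_813 (.node 64 tabC_814 tabC_815))) (.node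 192 (.node 64 tabC_816 (.node 64 tabC_817 tabC_818)) (.node 64 tabC_819 (.node 64 tabC_820 tabC_821)))))))) (.node 5248 (.node 2624 (.node 1280 (.node 640 (.node 320 (.node 128 (.node 64 tabC_822 tabC_823) (.node 64 tabC_824 (.node 64 tabC_825 tabC_826))) (.node 128 (.node 64 tabC_827 tabC_828) (.node 64 tabC_829 (.node 64 tabC_830 tabC_831)))) (.node 320 (.node 128 (.node 64 tabC_832 tabC_833) (.node 64 tabC_834 (.node 64 tabC_835 tabC_836))) (.node 128 (.node 64 tabC_837 tabC_838) (.node 64 tabC_839 (.node 64 tabC_840 tabC_841))))) (.node 640 (.node 320 (.node 128 (.node 64 tabC_842 tabC_843) (.node 64 tabC_844 (.node 64 tabC_845 tabC_846))) (.node 128 (.node 64 tabC_847 tabC_848) (.node 64 tabC_849 (.node 64 tabC_850 tabC_851)))) (.node 320 (.node 128 (.node 64 tabC_852 tabC_853) (.node 64 tabC_854 (.node 64 tabC_855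 tabC_856))) (.node 192 (.node 64 tabC_857 (.node 64 tabC_858 tabC_859)) (.node 64 tabC_860 (.node 64 tabC_861 tabC_862)))))) (.node 1280 (.node 640 (.node 320 (.node 128 (.node 64 tabC_863 tabC_864) (.node 64 tabC_865 (.node 64 tabC_866 tabC_867))) (.node 128 (.node 64 tabC_868 tabC_869) (.node 64 tabC_870 (.node 64 tabC_871 tabC_872)))) (.node 320 (.node 128 (.node 64 tabC_873 tabC_874) (.node 64 tabC_875 (.node 64 tabC_876 tabC_877))) (.node 128 (.node 64 tabC_878 tabC_879) (.node 64 tabC_880 (.node 64 tabC_881 tabC_882))))) (.node 640 (.node 320 (.node 128 (.node 64 tabC_883 tabC_884) (.node 64 tabC_885 (.node 64 tabC_886 tabC_887))) (.node 128 (.node 64 tabC_888 tabC_889) (.node 64 tabC_890 (.node 64 tabC_891 tabC_892)))) (.node 320 (.node 128 (.node 64 tabC_893 tabC_894) (.node 64 tabC_895 (.node 64 tabC_896 tabC_897)))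 (.node 192 (.node 64 tabC_898 (.node 64 tabC_899 tabC_900)) (.node 64 tabC_901 (.node 64 tabC_902 tabC_903))))))) (.node 2624 (.node 1280 (.node 640 (.node 320 (.node 128 (.node 64 tabC_904 tabC_905) (.node 64 tabC_906 (.node 64 tabC_907 tabC_908))) (.node 128 (.node 64 tabC_909 tabC_910) (.node 64 tabC_911 (.node 64 tabC_912 tabC_913)))) (.node 320 (.node 128 (.node 64 tabC_914 tabC_915) (.node 64 tabC_916 (.node 64 tabC_917 tabC_918))) (.node 128 (.node 64 tabC_919 tabC_920) (.node 64 tabC_921 (.node 64 tabC_922 tabC_923))))) (.node 640 (.node 320 (.node 128 (.node 64 tabC_924 tabC_925) (.node 64 tabC_926 (.node 64 tabC_927 tabC_928))) (.node 128 (.node 64 tabC_929 tabC_930) (.node 64 tabC_931 (.node 64 tabC_932 tabC_933)))) (.node 320 (.node 128 (.node 64 tabC_934 tabC_935) (.node 64 tabC_936 (.node 64 tabC_937 tabC_938)))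 (.node 192 (.node 64 tabC_939 (.node 64 tabC_940 tabC_941)) (.node 64 tabC_942 (.node 64 tabC_943 tabC_944)))))) (.node 1344 (.node 640 (.node 320 (.node 128 (.node 64 tabC_945 tabC_946) (.node 64 tabC_947 (.node 64 tabC_948 tabC_949))) (.node 128 (.node 64 tabC_950 tabC_951) (.node 64 tabC_952 (.node 64 tabC_953 tabC_954)))) (.node 320 (.node 128 (.node 64 tabC_955 tabC_956) (.node 64 tabC_957 (.node 64 tabC_958 tabC_959))) (.node 192 (.node 64 tabC_960 (.node 64 tabC_961 tabC_962)) (.node 64 tabC_963 (.node 64 tabC_964 tabC_965))))) (.node 640 (.node 320 (.node 128 (.node 64 tabC_966 tabC_967) (.node 64 tabC_968 (.node 64 tabC_969 tabC_970))) (.node 128 (.node 64 tabC_971 tabC_972) (.node 64 tabC_973 (.node 64 tabC_974 tabC_975)))) (.node 320 (.node 128 (.node 64 tabC_976 tabC_977) (.node 64 tabC_978 (.node 64 tabC_979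 tabC_980))) (.node 192 (.node 64 tabC_981 (.node 64 tabC_982 tabC_983)) (.node 64 tabC_984 (.node 64 tabC_985 tabC_986))))))))) (.node 10496 (.node 5248 (.node 2624 (.node 1280 (.node 640 (.node 320 (.node 128 (.node 64 tabC_987 tabC_988) (.node 64 tabC_989 (.node 64 tabC_990 tabC_991))) (.node 128 (.node 64 tabC_992 tabC_993) (.node 64 tabC_994 (.node 64 tabC_995 tabC_996)))) (.node 320 (.node 128 (.node 64 tabC_997 tabC_998) (.node 64 tabC_999 (.node 64 tabC_1000 tabC_1001))) (.node 128 (.node 64 tabC_1002 tabC_1003) (.node 64 tabC_1004 (.node 64 tabC_1005 tabC_1006))))) (.node 640 (.node 320 (.node 128 (.node 64 tabC_1007 tabC_1008) (.node 64 tabC_1009 (.node 64 tabC_1010 tabC_1011))) (.node 128 (.node 64 tabC_1012 tabC_1013) (.node 64 tabC_1014 (.node 64 tabC_1015 tabC_1016)))) (.node 320 (.node 128 (.node 64 tabC_1017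 tabC_1018) (.node 64 tabC_1019 (.node 64 tabC_1020 tabC_1021))) (.node 192 (.node 64 tabC_1022 (.node 64 tabC_1023 tabC_1024)) (.node 64 tabC_1025 (.node 64 tabC_1026 tabC_1027)))))) (.node 1280 (.node 640 (.node 320 (.node 128 (.node 64 tabC_1028 tabC_1029) (.node 64 tabC_1030 (.node 64 tabC_1031 tabC_1032))) (.node 128 (.node 64 tabC_1033 tabC_1034) (.node 64 tabC_1035 (.node 64 tabC_1036 tabC_1037)))) (.node 320 (.node 128 (.node 64 tabC_1038 tabC_1039) (.node 64 tabC_1040 (.node 64 tabC_1041 tabC_1042))) (.node 128 (.node 64 tabC_1043 tabC_1044) (.node 64 tabC_1045 (.node 64 tabC_1046 tabC_1047))))) (.node 640 (.node 320 (.node 128 (.node 64 tabC_1048 tabC_1049) (.node 64 tabC_1050 (.node 64 tabC_1051 tabC_1052))) (.node 128 (.node 64 tabC_1053 tabC_1054) (.node 64 tabC_1055 (.node 64 tabC_1056 tabC_1057)))) (.node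 320 (.node 128 (.node 64 tabC_1058 tabC_1059) (.node 64 tabC_1060 (.node 64 tabC_1061 tabC_1062))) (.node 192 (.node 64 tabC_1063 (.node 64 tabC_1064 tabC_1065)) (.node 64 tabC_1066 (.node 64 tabC_1067 tabC_1068))))))) (.node 2624 (.node 1280 (.node 640 (.node 320 (.node 128 (.node 64 tabC_1069 tabC_1070) (.node 64 tabC_1071 (.node 64 tabC_1072 tabC_1073))) (.node 128 (.node 64 tabC_1074 tabC_1075) (.node 64 tabC_1076 (.node 64 tabC_1077 tabC_1078)))) (.node 320 (.node 128 (.node 64 tabC_1079 tabC_1080) (.node 64 tabC_1081 (.node 64 tabC_1082 tabC_1083))) (.node 128 (.node 64 tabC_1084 tabC_1085) (.node 64 tabC_1086 (.node 64 tabC_1087 tabC_1088))))) (.node 640 (.node 320 (.node 128 (.node 64 tabC_1089 tabC_1090) (.node 64 tabC_1091 (.node 64 tabC_1092 tabC_1093))) (.node 128 (.node 64 tabC_1094 tabC_1095) (.node 64 tabC_1096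 (.node 64 tabC_1097 tabC_1098)))) (.node 320 (.node 128 (.node 64 tabC_1099 tabC_1100) (.node 64 tabC_1101 (.node 64 tabC_1102 tabC_1103))) (.node 192 (.node 64 tabC_1104 (.node 64 tabC_1105 tabC_1106)) (.node 64 tabC_1107 (.node 64 tabC_1108 tabC_1109)))))) (.node 1280 (.node 640 (.node 320 (.node 128 (.node 64 tabC_1110 tabC_1111) (.node 64 tabC_1112 (.node 64 tabC_1113 tabC_1114))) (.node 128 (.node 64 tabC_1115 tabC_1116) (.node 64 tabC_1117 (.node 64 tabC_1118 tabC_1119)))) (.node 320 (.node 128 (.node 64 tabC_1120 tabC_1121) (.node 64 tabC_1122 (.node 64 tabC_1123 tabC_1124))) (.node 128 (.node 64 tabC_1125 tabC_1126) (.node 64 tabC_1127 (.node 64 tabC_1128 tabC_1129))))) (.node 640 (.node 320 (.node 128 (.node 64 tabC_1130 tabC_1131) (.node 64 tabC_1132 (.node 64 tabC_1133 tabC_1134))) (.node 128 (.node 64 tabC_1135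 tabC_1136) (.node 64 tabC_1137 (.node 64 tabC_1138 tabC_1139)))) (.node 320 (.node 128 (.node 64 tabC_1140 tabC_1141) (.node 64 tabC_1142 (.node 64 tabC_1143 tabC_1144))) (.node 192 (.node 64 tabC_1145 (.node 64 tabC_1146 tabC_1147)) (.node 64 tabC_1148 (.node 64 tabC_1149 tabC_1150)))))))) (.node 5248 (.node 2624 (.node 1280 (.node 640 (.node 320 (.node 128 (.node 64 tabC_1151 tabC_1152) (.node 64 tabC_1153 (.node 64 tabC_1154 tabC_1155))) (.node 128 (.node 64 tabC_1156 tabC_1157) (.node 64 tabC_1158 (.node 64 tabC_1159 tabC_1160)))) (.node 320 (.node 128 (.node 64 tabC_1161 tabC_1162) (.node 64 tabC_1163 (.node 64 tabC_1164 tabC_1165))) (.node 128 (.node 64 tabC_1166 tabC_1167) (.node 64 tabC_1168 (.node 64 tabC_1169 tabC_1170))))) (.node 640 (.node 320 (.node 128 (.node 64 tabC_1171 tabC_1172) (.node 64 tabC_1173 (.node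 64 tabC_1174 tabC_1175))) (.node 128 (.node 64 tabC_1176 tabC_1177) (.node 64 tabC_1178 (.node 64 tabC_1179 tabC_1180)))) (.node 320 (.node 128 (.node 64 tabC_1181 tabC_1182) (.node 64 tabC_1183 (.node 64 tabC_1184 tabC_1185))) (.node 192 (.node 64 tabC_1186 (.node 64 tabC_1187 tabC_1188)) (.node 64 tabC_1189 (.node 64 tabC_1190 tabC_1191)))))) (.node 1280 (.node 640 (.node 320 (.node 128 (.node 64 tabC_1192 tabC_1193) (.node 64 tabC_1194 (.node 64 tabC_1195 tabC_1196))) (.node 128 (.node 64 tabC_1197 tabC_1198) (.node 64 tabC_1199 (.node 64 tabC_1200 tabC_1201)))) (.node 320 (.node 128 (.node 64 tabC_1202 tabC_1203) (.node 64 tabC_1204 (.node 64 tabC_1205 tabC_1206))) (.node 128 (.node 64 tabC_1207 tabC_1208) (.node 64 tabC_1209 (.node 64 tabC_1210 tabC_1211))))) (.node 640 (.node 320 (.node 128 (.node 64 tabC_1212 tabC_1213)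 (.node 64 tabC_1214 (.node 64 tabC_1215 tabC_1216))) (.node 128 (.node 64 tabC_1217 tabC_1218) (.node 64 tabC_1219 (.node 64 tabC_1220 tabC_1221)))) (.node 320 (.node 128 (.node 64 tabC_1222 tabC_1223) (.node 64 tabC_1224 (.node 64 tabC_1225 tabC_1226))) (.node 192 (.node 64 tabC_1227 (.node 64 tabC_1228 tabC_1229)) (.node 64 tabC_1230 (.node 64 tabC_1231 tabC_1232))))))) (.node 2624 (.node 1280 (.node 640 (.node 320 (.node 128 (.node 64 tabC_1233 tabC_1234) (.node 64 tabC_1235 (.node 64 tabC_1236 tabC_1237))) (.node 128 (.node 64 tabC_1238 tabC_1239) (.node 64 tabC_1240 (.node 64 tabC_1241 tabC_1242)))) (.node 320 (.node 128 (.node 64 tabC_1243 tabC_1244) (.node 64 tabC_1245 (.node 64 tabC_1246 tabC_1247))) (.node 128 (.node 64 tabC_1248 tabC_1249) (.node 64 tabC_1250 (.node 64 tabC_1251 tabC_1252))))) (.node 640 (.node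 320 (.node 128 (.node 64 tabC_1253 tabC_1254) (.node 64 tabC_1255 (.node 64 tabC_1256 tabC_1257))) (.node 128 (.node 64 tabC_1258 tabC_1259) (.node 64 tabC_1260 (.node 64 tabC_1261 tabC_1262)))) (.node 320 (.node 128 (.node 64 tabC_1263 tabC_1264) (.node 64 tabC_1265 (.node 64 tabC_1266 tabC_1267))) (.node 192 (.node 64 tabC_1268 (.node 64 tabC_1269 tabC_1270)) (.node 64 tabC_1271 (.node 64 tabC_1272 tabC_1273)))))) (.node 1344 (.node 640 (.node 320 (.node 128 (.node 64 tabC_1274 tabC_1275) (.node 64 tabC_1276 (.node 64 tabC_1277 tabC_1278))) (.node 128 (.node 64 tabC_1279 tabC_1280) (.node 64 tabC_1281 (.node 64 tabC_1282 tabC_1283)))) (.node 320 (.node 128 (.node 64 tabC_1284 tabC_1285) (.node 64 tabC_1286 (.node 64 tabC_1287 tabC_1288))) (.node 192 (.node 64 tabC_1289 (.node 64 tabC_1290 tabC_1291)) (.node 64 tabC_1292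 (.node 64 tabC_1293 tabC_1294))))) (.node 640 (.node 320 (.node 128 (.node 64 tabC_1295 tabC_1296) (.node 64 tabC_1297 (.node 64 tabC_1298 tabC_1299))) (.node 128 (.node 64 tabC_1300 tabC_1301) (.node 64 tabC_1302 (.node 64 tabC_1303 tabC_1304)))) (.node 320 (.node 128 (.node 64 tabC_1305 tabC_1306) (.node 64 tabC_1307 (.node 64 tabC_1308 tabC_1309))) (.node 192 (.node 64 tabC_1310 (.node 64 tabC_1311 tabC_1312)) (.node 64 tabC_1313 (.node 64 tabC_1314 tabC_1315)))))))))))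

/-- Table. -/
def tabZ : Tab :=
  (.node 512 (.node 256 (.node 128 (.node 64 tabZ_0 tabZ_1) (.node 64 tabZ_2 tabZ_3)) (.node 128 (.node 64 tabZ_4 tabZ_5) (.node 64 tabZ_6 tabZ_7))) (.node 256 (.node 128 (.node 64 tabZ_8 tabZ_9) (.node 64 tabZ_10 tabZ_11)) (.node 128 (.node 64 tabZ_12 tabZ_13) (.node 64 tabZ_14 (.node 64 tabZ_15 tabZ_16)))))

/-- Table. -/
def tabP : Tab :=
  (.node 512 (.node 256 (.node 128 (.node 64 tabP_0 tabP_1) (.node 64 tabP_2 tabP_3)) (.node 128 (.node 64 tabP_4 tabP_5) (.node 64 tabP_6 tabP_7))) (.node 256 (.node 128 (.node 64 tabP_8 tabP_9) (.node 64 tabP_10 tabP_11)) (.node 128 (.node 64 tabP_12 tabP_13) (.node 64 tabP_14 (.node 64 tabP_15 tabP_16)))))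

/-- The shifts in use. -/
def relWords : List (List Nat) := [
    [2, 3, 1, 2, 3, 1],
    [2, 1, 3, 2, 1, 3],
    [3, 1, 2, 3, 1, 2],
    [3, 2, 1, 3, 2, 1],
    [1, 2, 3, 1, 2, 3],
    [1, 3, 2, 1, 3, 2],
    [3, 0, 5, 2, 5, 0],
    [0, 5, 2, 5, 0, 3],
    [0, 3, 0, 5, 2, 5],
    [5, 2, 5, 0, 3, 0],
    [5, 0, 3, 0, 5, 2],
    [2, 5, 0, 3, 0, 5],
    [3, 4, 3, 2, 4, 2],
    [3, 2, 4, 2, 3, 4],
    [4, 3, 2, 4, 2, 3],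
    [2, 4, 2, 3, 4, 3],
    [2, 3, 4, 3, 2, 4],
    [4, 2, 3, 4, 3, 2],
    [5, 0, 5, 0, 5, 0],
    [0, 5, 0, 5, 0, 5],
    [7, 0, 7, 0, 7, 0],
    [0, 7, 0, 7, 0, 7],
    [1, 0, 1, 0, 1, 0, 1, 0],
    [0, 1, 0, 1, 0, 1, 0, 1],
    [2, 0, 2, 0, 2, 0, 2, 0],
    [0, 2, 0, 2, 0, 2, 0, 2],
    [2, 0, 3, 0, 2, 0, 3, 0],
    [0, 3, 0, 2, 0, 3, 0, 2],
    [0, 2, 0, 3, 0, 2, 0, 3],
    [3, 0, 2, 0, 3, 0, 2, 0],
    [2, 1, 2, 1, 2, 1, 2, 1],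
    [1, 2, 1, 2, 1, 2, 1, 2],
    [2, 1, 4, 1, 2, 1, 4, 1],
    [1, 4, 1, 2, 1, 4, 1, 2],
    [1, 2, 1, 4, 1, 2, 1, 4],
    [4, 1, 2, 1, 4, 1, 2, 1],
    [2, 3, 4, 0, 4, 2, 3, 0],
    [2, 0, 3, 2, 4, 0, 4, 3],
    [3, 4, 0, 4, 2, 3, 0, 2],
    [3, 2, 0, 3, 2, 4, 0, 4],
    [4, 0, 4, 2, 3, 0, 2, 3],
    [4, 3, 2, 0, 3, 2, 4, 0],
    [0, 4, 2, 3, 0, 2, 3, 4],
    [0, 4, 3, 2, 0, 3, 2, 4],
    [4, 2, 3, 0, 2, 3, 4, 0],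
    [4, 0, 4, 3, 2, 0, 3, 2],
    [2, 3, 0, 2, 3, 4, 0, 4],
    [2, 4, 0, 4, 3, 2, 0, 3],
    [3, 0, 2, 3, 4, 0, 4, 2],
    [3, 2, 4, 0, 4, 3, 2, 0],
    [0, 2, 3, 4, 0, 4, 2, 3],
    [0, 3, 2, 4, 0, 4, 3, 2],
    [2, 3, 5, 1, 2, 3, 5, 1],
    [2, 1, 5, 3, 2, 1, 5, 3],
    [3, 5, 1, 2, 3, 5, 1, 2],
    [3, 2, 1, 5, 3, 2, 1, 5],
    [5, 1, 2, 3, 5, 1, 2, 3],
    [5, 3, 2, 1, 5, 3, 2, 1],
    [1, 2, 3, 5, 1, 2, 3, 5],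
    [1, 5, 3, 2, 1, 5, 3, 2],
    [2, 4, 3, 0, 3, 4, 2, 0],
    [2, 0, 2, 4, 3, 0, 3, 4],
    [4, 3, 0, 3, 4, 2, 0, 2],
    [4, 2, 0, 2, 4, 3, 0, 3],
    [3, 0, 3, 4, 2, 0, 2, 4],
    [3, 4, 2, 0, 2, 4, 3, 0],
    [0, 3, 4, 2, 0, 2, 4, 3],
    [0, 2, 4, 3, 0, 3, 4, 2],
    [2, 5, 2, 1, 3, 5, 3, 1],
    [2, 1, 3, 5, 3, 1, 2, 5],
    [5, 2, 1, 3, 5, 3, 1, 2],
    [1, 3, 5, 3, 1, 2, 5, 2],
    [1, 2, 5, 2, 1, 3, 5, 3],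
    [3, 5, 3, 1, 2, 5, 2, 1],
    [3, 1, 2, 5, 2, 1, 3, 5],
    [5, 3, 1, 2, 5, 2, 1, 3],
    [3, 0, 3, 0, 3, 0, 3, 0],
    [0, 3, 0, 3, 0, 3, 0, 3],
    [3, 1, 5, 1, 3, 2, 5, 2],
    [3, 2, 5, 2, 3, 1, 5, 1],
    [1, 5, 1, 3, 2, 5, 2, 3],
    [1, 3, 2, 5, 2, 3, 1, 5],
    [5, 1, 3, 2, 5, 2, 3, 1],
    [2, 5, 2, 3, 1, 5, 1, 3],
    [2, 3, 1, 5, 1, 3, 2, 5],
    [5, 2, 3, 1, 5, 1, 3, 2],
    [4, 1, 4, 3, 4, 1, 4, 3],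
    [4, 3, 4, 1, 4, 3, 4, 1],
    [1, 4, 3, 4, 1, 4, 3, 4],
    [3, 4, 1, 4, 3, 4, 1, 4],
    [4, 2, 4, 2, 4, 2, 4, 2],
    [2, 4, 2, 4, 2, 4, 2, 4],
    [4, 5, 4, 2, 4, 5, 4, 2],
    [4, 2, 4, 5, 4, 2, 4, 5],
    [5, 4, 2, 4, 5, 4, 2, 4],
    [2, 4, 5, 4, 2, 4, 5, 4],
    [5, 4, 5, 4, 5, 4, 5, 4],
    [4, 5, 4, 5, 4, 5, 4, 5],
    [6, 0, 6, 0, 6, 0, 6, 0],
    [0, 6, 0, 6, 0, 6, 0, 6],
    [6, 0, 6, 4, 6, 0, 6, 4],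
    [6, 4, 6, 0, 6, 4, 6, 0],
    [0, 6, 4, 6, 0, 6, 4, 6],
    [4, 6, 0, 6, 4, 6, 0, 6],
    [6, 4, 6, 4, 6, 4, 6, 4],
    [4, 6, 4, 6, 4, 6, 4, 6],
    [3, 1, 3, 1, 3, 1, 3, 1],
    [1, 3, 1, 3, 1, 3, 1, 3],
    [3, 7, 3, 1, 3, 7, 3, 1],
    [3, 1, 3, 7, 3, 1, 3, 7],
    [7, 3, 1, 3, 7, 3, 1, 3],
    [1, 3, 7, 3, 1, 3, 7, 3],
    [7, 1, 7, 1, 7, 1, 7, 1],
    [1, 7, 1, 7, 1, 7, 1, 7],
    [7, 2, 7, 2, 7, 2, 7, 2],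
    [2, 7, 2, 7, 2, 7, 2, 7],
    [0, 1, 2, 1, 4, 3, 0, 4, 2],
    [0, 2, 4, 0, 3, 4, 1, 2, 1],
    [1, 2, 1, 4, 3, 0, 4, 2, 0],
    [1, 0, 2, 4, 0, 3, 4, 1, 2],
    [2, 1, 4, 3, 0, 4, 2, 0, 1],
    [2, 1, 0, 2, 4, 0, 3, 4, 1],
    [1, 4, 3, 0, 4, 2, 0, 1, 2],
    [1, 2, 1, 0, 2, 4, 0, 3, 4],
    [4, 3, 0, 4, 2, 0, 1, 2, 1],
    [4, 1, 2, 1, 0, 2, 4, 0, 3],
    [3, 0, 4, 2, 0, 1, 2, 1, 4],
    [3, 4, 1, 2, 1, 0, 2, 4, 0],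
    [0, 4, 2, 0, 1, 2, 1, 4, 3],
    [0, 3, 4, 1, 2, 1, 0, 2, 4],
    [4, 2, 0, 1, 2, 1, 4, 3, 0],
    [4, 0, 3, 4, 1, 2, 1, 0, 2],
    [2, 0, 1, 2, 1, 4, 3, 0, 4],
    [2, 4, 0, 3, 4, 1, 2, 1, 0],
    [1, 2, 4, 1, 4, 1, 2, 4, 3],
    [1, 3, 4, 2, 1, 4, 1, 4, 2],
    [2, 4, 1, 4, 1, 2, 4, 3, 1],
    [2, 1, 3, 4, 2, 1, 4, 1, 4],
    [4, 1, 4, 1, 2, 4, 3, 1, 2],
    [4, 2, 1, 3, 4, 2, 1, 4, 1],
    [1, 4, 1, 2, 4, 3, 1, 2, 4],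
    [1, 4, 2, 1, 3, 4, 2, 1, 4],
    [4, 1, 2, 4, 3, 1, 2, 4, 1],
    [4, 1, 4, 2, 1, 3, 4, 2, 1],
    [1, 2, 4, 3, 1, 2, 4, 1, 4],
    [1, 4, 1, 4, 2, 1, 3, 4, 2],
    [2, 4, 3, 1, 2, 4, 1, 4, 1],
    [2, 1, 4, 1, 4, 2, 1, 3, 4],
    [4, 3, 1, 2, 4, 1, 4, 1, 2],
    [4, 2, 1, 4, 1, 4, 2, 1, 3],
    [3, 1, 2, 4, 1, 4, 1, 2, 4],
    [3, 4, 2, 1, 4, 1, 4, 2, 1],
    [0, 1, 0, 1, 6, 3, 0, 3, 6],
    [0, 6, 3, 0, 3, 6, 1, 0, 1],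
    [1, 0, 1, 6, 3, 0, 3, 6, 0],
    [1, 0, 6, 3, 0, 3, 6, 1, 0],
    [0, 1, 6, 3, 0, 3, 6, 0, 1],
    [0, 1, 0, 6, 3, 0, 3, 6, 1],
    [1, 6, 3, 0, 3, 6, 0, 1, 0],
    [1, 0, 1, 0, 6, 3, 0, 3, 6],
    [6, 3, 0, 3, 6, 0, 1, 0, 1],
    [6, 1, 0, 1, 0, 6, 3, 0, 3],
    [3, 0, 3, 6, 0, 1, 0, 1, 6],
    [3, 6, 1, 0, 1, 0, 6, 3, 0],
    [0, 3, 6, 0, 1, 0, 1, 6, 3],
    [0, 3, 6, 1, 0, 1, 0, 6, 3],
    [3, 6, 0, 1, 0, 1, 6, 3, 0],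
    [3, 0, 3, 6, 1, 0, 1, 0, 6],
    [6, 0, 1, 0, 1, 6, 3, 0, 3],
    [6, 3, 0, 3, 6, 1, 0, 1, 0],
    [0, 2, 3, 0, 2, 6, 0, 6, 3],
    [0, 3, 6, 0, 6, 2, 0, 3, 2],
    [2, 3, 0, 2, 6, 0, 6, 3, 0],
    [2, 0, 3, 6, 0, 6, 2, 0, 3],
    [3, 0, 2, 6, 0, 6, 3, 0, 2],
    [3, 2, 0, 3, 6, 0, 6, 2, 0],
    [0, 2, 6, 0, 6, 3, 0, 2, 3],
    [0, 3, 2, 0, 3, 6, 0, 6, 2],
    [2, 6, 0, 6, 3, 0, 2, 3, 0],
    [2, 0, 3, 2, 0, 3, 6, 0, 6],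
    [6, 0, 6, 3, 0, 2, 3, 0, 2],
    [6, 2, 0, 3, 2, 0, 3, 6, 0],
    [0, 6, 3, 0, 2, 3, 0, 2, 6],
    [0, 6, 2, 0, 3, 2, 0, 3, 6],
    [6, 3, 0, 2, 3, 0, 2, 6, 0],
    [6, 0, 6, 2, 0, 3, 2, 0, 3],
    [3, 0, 2, 3, 0, 2, 6, 0, 6],
    [3, 6, 0, 6, 2, 0, 3, 2, 0],
    [0, 4, 6, 2, 3, 2, 3, 6, 4],
    [0, 4, 6, 3, 2, 3, 2, 6, 4],
    [4, 6, 2, 3, 2, 3, 6, 4, 0],
    [4, 0, 4, 6, 3, 2, 3, 2, 6],
    [6, 2, 3, 2, 3, 6, 4, 0, 4],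
    [6, 4, 0, 4, 6, 3, 2, 3, 2],
    [2, 3, 2, 3, 6, 4, 0, 4, 6],
    [2, 6, 4, 0, 4, 6, 3, 2, 3],
    [3, 2, 3, 6, 4, 0, 4, 6, 2],
    [3, 2, 6, 4, 0, 4, 6, 3, 2],
    [2, 3, 6, 4, 0, 4, 6, 2, 3],
    [2, 3, 2, 6, 4, 0, 4, 6, 3],
    [3, 6, 4, 0, 4, 6, 2, 3, 2],
    [3, 2, 3, 2, 6, 4, 0, 4, 6],
    [6, 4, 0, 4, 6, 2, 3, 2, 3],
    [6, 3, 2, 3, 2, 6, 4, 0, 4],
    [4, 0, 4, 6, 2, 3, 2, 3, 6],
    [4, 6, 3, 2, 3, 2, 6, 4, 0],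
    [0, 1, 3, 0, 1, 3, 7, 1, 7],
    [0, 7, 1, 7, 3, 1, 0, 3, 1],
    [1, 3, 0, 1, 3, 7, 1, 7, 0],
    [1, 0, 7, 1, 7, 3, 1, 0, 3],
    [3, 0, 1, 3, 7, 1, 7, 0, 1],
    [3, 1, 0, 7, 1, 7, 3, 1, 0],
    [0, 1, 3, 7, 1, 7, 0, 1, 3],
    [0, 3, 1, 0, 7, 1, 7, 3, 1],
    [1, 3, 7, 1, 7, 0, 1, 3, 0],
    [1, 0, 3, 1, 0, 7, 1, 7, 3],
    [3, 7, 1, 7, 0, 1, 3, 0, 1],
    [3, 1, 0, 3, 1, 0, 7, 1, 7],
    [7, 1, 7, 0, 1, 3, 0, 1, 3],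
    [7, 3, 1, 0, 3, 1, 0, 7, 1],
    [1, 7, 0, 1, 3, 0, 1, 3, 7],
    [1, 7, 3, 1, 0, 3, 1, 0, 7],
    [7, 0, 1, 3, 0, 1, 3, 7, 1],
    [7, 1, 7, 3, 1, 0, 3, 1, 0],
    [0, 1, 7, 1, 7, 0, 2, 1, 2],
    [0, 2, 1, 2, 0, 7, 1, 7, 1],
    [1, 7, 1, 7, 0, 2, 1, 2, 0],
    [1, 0, 2, 1, 2, 0, 7, 1, 7],
    [7, 1, 7, 0, 2, 1, 2, 0, 1],
    [7, 1, 0, 2, 1, 2, 0, 7, 1],
    [1, 7, 0, 2, 1, 2, 0, 1, 7],
    [1, 7, 1, 0, 2, 1, 2, 0, 7],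
    [7, 0, 2, 1, 2, 0, 1, 7, 1],
    [7, 1, 7, 1, 0, 2, 1, 2, 0],
    [0, 2, 1, 2, 0, 1, 7, 1, 7],
    [0, 7, 1, 7, 1, 0, 2, 1, 2],
    [2, 1, 2, 0, 1, 7, 1, 7, 0],
    [2, 0, 7, 1, 7, 1, 0, 2, 1],
    [1, 2, 0, 1, 7, 1, 7, 0, 2],
    [1, 2, 0, 7, 1, 7, 1, 0, 2],
    [2, 0, 1, 7, 1, 7, 0, 2, 1],
    [2, 1, 2, 0, 7, 1, 7, 1, 0],
    [1, 0, 2, 0, 5, 1, 5, 0, 2, 0],
    [0, 2, 0, 5, 1, 5, 0, 2, 0, 1],
    [0, 1, 0, 2, 0, 5, 1, 5, 0, 2],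
    [2, 0, 5, 1, 5, 0, 2, 0, 1, 0],
    [2, 0, 1, 0, 2, 0, 5, 1, 5, 0],
    [0, 5, 1, 5, 0, 2, 0, 1, 0, 2],
    [0, 2, 0, 1, 0, 2, 0, 5, 1, 5],
    [5, 1, 5, 0, 2, 0, 1, 0, 2, 0],
    [5, 0, 2, 0, 1, 0, 2, 0, 5, 1],
    [1, 5, 0, 2, 0, 1, 0, 2, 0, 5],
    [2, 0, 5, 4, 5, 3, 5, 4, 5, 0],
    [0, 5, 4, 5, 3, 5, 4, 5, 0, 2],
    [0, 2, 0, 5, 4, 5, 3, 5, 4, 5],
    [5, 4, 5, 3, 5, 4, 5, 0, 2, 0],
    [5, 0, 2, 0, 5, 4, 5, 3, 5, 4],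
    [4, 5, 3, 5, 4, 5, 0, 2, 0, 5],
    [4, 5, 0, 2, 0, 5, 4, 5, 3, 5],
    [5, 3, 5, 4, 5, 0, 2, 0, 5, 4],
    [5, 4, 5, 0, 2, 0, 5, 4, 5, 3],
    [3, 5, 4, 5, 0, 2, 0, 5, 4, 5],
    [1, 2, 6, 3, 6, 1, 0, 4, 6, 0],
    [1, 0, 6, 4, 0, 1, 6, 3, 6, 2],
    [2, 6, 3, 6, 1, 0, 4, 6, 0, 1],
    [2, 1, 0, 6, 4, 0, 1, 6, 3, 6],
    [6, 3, 6, 1, 0, 4, 6, 0, 1, 2],
    [6, 2, 1, 0, 6, 4, 0, 1, 6, 3],
    [3, 6, 1, 0, 4, 6, 0, 1, 2, 6],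
    [3, 6, 2, 1, 0, 6, 4, 0, 1, 6],
    [6, 1, 0, 4, 6, 0, 1, 2, 6, 3],
    [6, 3, 6, 2, 1, 0, 6, 4, 0, 1],
    [1, 0, 4, 6, 0, 1, 2, 6, 3, 6],
    [1, 6, 3, 6, 2, 1, 0, 6, 4, 0],
    [0, 4, 6, 0, 1, 2, 6, 3, 6, 1],
    [0, 1, 6, 3, 6, 2, 1, 0, 6, 4],
    [4, 6, 0, 1, 2, 6, 3, 6, 1, 0],
    [4, 0, 1, 6, 3, 6, 2, 1, 0, 6],
    [6, 0, 1, 2, 6, 3, 6, 1, 0, 4],
    [6, 4, 0, 1, 6, 3, 6, 2, 1, 0],
    [0, 1, 2, 6, 3, 6, 1, 0, 4, 6],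
    [0, 6, 4, 0, 1, 6, 3, 6, 2, 1],
    [3, 6, 2, 6, 2, 6, 3, 1, 6, 1],
    [3, 1, 6, 1, 3, 6, 2, 6, 2, 6],
    [6, 2, 6, 2, 6, 3, 1, 6, 1, 3],
    [6, 3, 1, 6, 1, 3, 6, 2, 6, 2],
    [2, 6, 2, 6, 3, 1, 6, 1, 3, 6],
    [2, 6, 3, 1, 6, 1, 3, 6, 2, 6],
    [6, 2, 6, 3, 1, 6, 1, 3, 6, 2],
    [1, 6, 1, 3, 6, 2, 6, 2, 6, 3],
    [1, 3, 6, 2, 6, 2, 6, 3, 1, 6],
    [6, 1, 3, 6, 2, 6, 2, 6, 3, 1],
    [1, 0, 2, 5, 7, 1, 7, 3, 5, 0],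
    [1, 0, 5, 3, 7, 1, 7, 5, 2, 0],
    [0, 2, 5, 7, 1, 7, 3, 5, 0, 1],
    [0, 1, 0, 5, 3, 7, 1, 7, 5, 2],
    [2, 5, 7, 1, 7, 3, 5, 0, 1, 0],
    [2, 0, 1, 0, 5, 3, 7, 1, 7, 5],
    [5, 7, 1, 7, 3, 5, 0, 1, 0, 2],
    [5, 2, 0, 1, 0, 5, 3, 7, 1, 7],
    [7, 1, 7, 3, 5, 0, 1, 0, 2, 5],
    [7, 5, 2, 0, 1, 0, 5, 3, 7, 1],
    [1, 7, 3, 5, 0, 1, 0, 2, 5, 7],
    [1, 7, 5, 2, 0, 1, 0, 5, 3, 7],
    [7, 3, 5, 0, 1, 0, 2, 5, 7, 1],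
    [7, 1, 7, 5, 2, 0, 1, 0, 5, 3],
    [3, 5, 0, 1, 0, 2, 5, 7, 1, 7],
    [3, 7, 1, 7, 5, 2, 0, 1, 0, 5],
    [5, 0, 1, 0, 2, 5, 7, 1, 7, 3],
    [5, 3, 7, 1, 7, 5, 2, 0, 1, 0],
    [0, 1, 0, 2, 5, 7, 1, 7, 3, 5],
    [0, 5, 3, 7, 1, 7, 5, 2, 0, 1],
    [2, 1, 2, 5, 7, 5, 7, 5, 7, 1],
    [2, 1, 7, 5, 7, 5, 7, 5, 2, 1],
    [1, 2, 5, 7, 5, 7, 5, 7, 1, 2],
    [1, 2, 1, 7, 5, 7, 5, 7, 5, 2],
    [2, 5, 7, 5, 7, 5, 7, 1, 2, 1],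
    [2, 1, 2, 1, 7, 5, 7, 5, 7, 5],
    [5, 7, 5, 7, 5, 7, 1, 2, 1, 2],
    [5, 2, 1, 2, 1, 7, 5, 7, 5, 7],
    [7, 5, 7, 5, 7, 1, 2, 1, 2, 5],
    [7, 5, 2, 1, 2, 1, 7, 5, 7, 5],
    [5, 7, 5, 7, 1, 2, 1, 2, 5, 7],
    [5, 7, 5, 2, 1, 2, 1, 7, 5, 7],
    [7, 5, 7, 1, 2, 1, 2, 5, 7, 5],
    [7, 5, 7, 5, 2, 1, 2, 1, 7, 5],
    [5, 7, 1, 2, 1, 2, 5, 7, 5, 7],
    [5, 7, 5, 7, 5, 2, 1, 2, 1, 7],
    [7, 1, 2, 1, 2, 5, 7, 5, 7, 5],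
    [7, 5, 7, 5, 7, 5, 2, 1, 2, 1],
    [1, 2, 1, 2, 5, 7, 5, 7, 5, 7],
    [1, 7, 5, 7, 5, 7, 5, 2, 1, 2],
    [5, 2, 7, 2, 5, 3, 5, 7, 5, 3],
    [5, 3, 5, 7, 5, 3, 5, 2, 7, 2],
    [2, 7, 2, 5, 3, 5, 7, 5, 3, 5],
    [2, 5, 3, 5, 7, 5, 3, 5, 2, 7],
    [7, 2, 5, 3, 5, 7, 5, 3, 5, 2],
    [3, 5, 7, 5, 3, 5, 2, 7, 2, 5],
    [3, 5, 2, 7, 2, 5, 3, 5, 7, 5],
    [5, 7, 5, 3, 5, 2, 7, 2, 5, 3],
    [5, 3, 5, 2, 7, 2, 5, 3, 5, 7],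
    [7, 5, 3, 5, 2, 7, 2, 5, 3, 5],
    [0, 1, 0, 2, 5, 0, 1, 3, 0, 1, 5],
    [0, 5, 1, 0, 3, 1, 0, 5, 2, 0, 1],
    [1, 0, 2, 5, 0, 1, 3, 0, 1, 5, 0],
    [1, 0, 5, 1, 0, 3, 1, 0, 5, 2, 0],
    [0, 2, 5, 0, 1, 3, 0, 1, 5, 0, 1],
    [0, 1, 0, 5, 1, 0, 3, 1, 0, 5, 2],
    [2, 5, 0, 1, 3, 0, 1, 5, 0, 1, 0],
    [2, 0, 1, 0, 5, 1, 0, 3, 1, 0, 5],
    [5, 0, 1, 3, 0, 1, 5, 0, 1, 0, 2],
    [5, 2, 0, 1, 0, 5, 1, 0, 3, 1, 0],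
    [0, 1, 3, 0, 1, 5, 0, 1, 0, 2, 5],
    [0, 5, 2, 0, 1, 0, 5, 1, 0, 3, 1],
    [1, 3, 0, 1, 5, 0, 1, 0, 2, 5, 0],
    [1, 0, 5, 2, 0, 1, 0, 5, 1, 0, 3],
    [3, 0, 1, 5, 0, 1, 0, 2, 5, 0, 1],
    [3, 1, 0, 5, 2, 0, 1, 0, 5, 1, 0],
    [0, 1, 5, 0, 1, 0, 2, 5, 0, 1, 3],
    [0, 3, 1, 0, 5, 2, 0, 1, 0, 5, 1],
    [1, 5, 0, 1, 0, 2, 5, 0, 1, 3, 0],
    [1, 0, 3, 1, 0, 5, 2, 0, 1, 0, 5],
    [5, 0, 1, 0, 2, 5, 0, 1, 3, 0, 1],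
    [5, 1, 0, 3, 1, 0, 5, 2, 0, 1, 0],
    [0, 1, 2, 0, 1, 4, 1, 2, 0, 1, 4],
    [0, 4, 1, 0, 2, 1, 4, 1, 0, 2, 1],
    [1, 2, 0, 1, 4, 1, 2, 0, 1, 4, 0],
    [1, 0, 4, 1, 0, 2, 1, 4, 1, 0, 2],
    [2, 0, 1, 4, 1, 2, 0, 1, 4, 0, 1],
    [2, 1, 0, 4, 1, 0, 2, 1, 4, 1, 0],
    [0, 1, 4, 1, 2, 0, 1, 4, 0, 1, 2],
    [0, 2, 1, 0, 4, 1, 0, 2, 1, 4, 1],
    [1, 4, 1, 2, 0, 1, 4, 0, 1, 2, 0],
    [1, 0, 2, 1, 0, 4, 1, 0, 2, 1, 4],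
    [4, 1, 2, 0, 1, 4, 0, 1, 2, 0, 1],
    [4, 1, 0, 2, 1, 0, 4, 1, 0, 2, 1],
    [1, 2, 0, 1, 4, 0, 1, 2, 0, 1, 4],
    [1, 4, 1, 0, 2, 1, 0, 4, 1, 0, 2],
    [2, 0, 1, 4, 0, 1, 2, 0, 1, 4, 1],
    [2, 1, 4, 1, 0, 2, 1, 0, 4, 1, 0],
    [0, 1, 4, 0, 1, 2, 0, 1, 4, 1, 2],
    [0, 2, 1, 4, 1, 0, 2, 1, 0, 4, 1],
    [1, 4, 0, 1, 2, 0, 1, 4, 1, 2, 0],
    [1, 0, 2, 1, 4, 1, 0, 2, 1, 0, 4],
    [4, 0, 1, 2, 0, 1, 4, 1, 2, 0, 1],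
    [4, 1, 0, 2, 1, 4, 1, 0, 2, 1, 0],
    [0, 2, 4, 2, 5, 4, 0, 5, 4, 0, 5],
    [0, 5, 0, 4, 5, 0, 4, 5, 2, 4, 2],
    [2, 4, 2, 5, 4, 0, 5, 4, 0, 5, 0],
    [2, 0, 5, 0, 4, 5, 0, 4, 5, 2, 4],
    [4, 2, 5, 4, 0, 5, 4, 0, 5, 0, 2],
    [4, 2, 0, 5, 0, 4, 5, 0, 4, 5, 2],
    [2, 5, 4, 0, 5, 4, 0, 5, 0, 2, 4],
    [2, 4, 2, 0, 5, 0, 4, 5, 0, 4, 5],
    [5, 4, 0, 5, 4, 0, 5, 0, 2, 4, 2],
    [5, 2, 4, 2, 0, 5, 0, 4, 5, 0, 4],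
    [4, 0, 5, 4, 0, 5, 0, 2, 4, 2, 5],
    [4, 5, 2, 4, 2, 0, 5, 0, 4, 5, 0],
    [0, 5, 4, 0, 5, 0, 2, 4, 2, 5, 4],
    [0, 4, 5, 2, 4, 2, 0, 5, 0, 4, 5],
    [5, 4, 0, 5, 0, 2, 4, 2, 5, 4, 0],
    [5, 0, 4, 5, 2, 4, 2, 0, 5, 0, 4],
    [4, 0, 5, 0, 2, 4, 2, 5, 4, 0, 5],
    [4, 5, 0, 4, 5, 2, 4, 2, 0, 5, 0],
    [0, 5, 0, 2, 4, 2, 5, 4, 0, 5, 4],
    [0, 4, 5, 0, 4, 5, 2, 4, 2, 0, 5],
    [5, 0, 2, 4, 2, 5, 4, 0, 5, 4, 0],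
    [5, 0, 4, 5, 0, 4, 5, 2, 4, 2, 0],
    [0, 1, 0, 1, 5, 7, 5, 1, 5, 7, 5],
    [0, 5, 7, 5, 1, 5, 7, 5, 1, 0, 1],
    [1, 0, 1, 5, 7, 5, 1, 5, 7, 5, 0],
    [1, 0, 5, 7, 5, 1, 5, 7, 5, 1, 0],
    [0, 1, 5, 7, 5, 1, 5, 7, 5, 0, 1],
    [0, 1, 0, 5, 7, 5, 1, 5, 7, 5, 1],
    [1, 5, 7, 5, 1, 5, 7, 5, 0, 1, 0],
    [1, 0, 1, 0, 5, 7, 5, 1, 5, 7, 5],
    [5, 7, 5, 1, 5, 7, 5, 0, 1, 0, 1],
    [5, 1, 0, 1, 0, 5, 7, 5, 1, 5, 7],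
    [7, 5, 1, 5, 7, 5, 0, 1, 0, 1, 5],
    [7, 5, 1, 0, 1, 0, 5, 7, 5, 1, 5],
    [5, 1, 5, 7, 5, 0, 1, 0, 1, 5, 7],
    [5, 7, 5, 1, 0, 1, 0, 5, 7, 5, 1],
    [1, 5, 7, 5, 0, 1, 0, 1, 5, 7, 5],
    [1, 5, 7, 5, 1, 0, 1, 0, 5, 7, 5],
    [5, 7, 5, 0, 1, 0, 1, 5, 7, 5, 1],
    [5, 1, 5, 7, 5, 1, 0, 1, 0, 5, 7],
    [7, 5, 0, 1, 0, 1, 5, 7, 5, 1, 5],
    [7, 5, 1, 5, 7, 5, 1, 0, 1, 0, 5],
    [5, 0, 1, 0, 1, 5, 7, 5, 1, 5, 7],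
    [5, 7, 5, 1, 5, 7, 5, 1, 0, 1, 0],
    [1, 2, 5, 1, 7, 3, 2, 7, 5, 2, 7],
    [1, 7, 2, 5, 7, 2, 3, 7, 1, 5, 2],
    [2, 5, 1, 7, 3, 2, 7, 5, 2, 7, 1],
    [2, 1, 7, 2, 5, 7, 2, 3, 7, 1, 5],
    [5, 1, 7, 3, 2, 7, 5, 2, 7, 1, 2],
    [5, 2, 1, 7, 2, 5, 7, 2, 3, 7, 1],
    [1, 7, 3, 2, 7, 5, 2, 7, 1, 2, 5],
    [1, 5, 2, 1, 7, 2, 5, 7, 2, 3, 7],
    [7, 3, 2, 7, 5, 2, 7, 1, 2, 5, 1],
    [7, 1, 5, 2, 1, 7, 2, 5, 7, 2, 3],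
    [3, 2, 7, 5, 2, 7, 1, 2, 5, 1, 7],
    [3, 7, 1, 5, 2, 1, 7, 2, 5, 7, 2],
    [2, 7, 5, 2, 7, 1, 2, 5, 1, 7, 3],
    [2, 3, 7, 1, 5, 2, 1, 7, 2, 5, 7],
    [7, 5, 2, 7, 1, 2, 5, 1, 7, 3, 2],
    [7, 2, 3, 7, 1, 5, 2, 1, 7, 2, 5],
    [5, 2, 7, 1, 2, 5, 1, 7, 3, 2, 7],
    [5, 7, 2, 3, 7, 1, 5, 2, 1, 7, 2],
    [2, 7, 1, 2, 5, 1, 7, 3, 2, 7, 5],
    [2, 5, 7, 2, 3, 7, 1, 5, 2, 1, 7],
    [7, 1, 2, 5, 1, 7, 3, 2, 7, 5, 2],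
    [7, 2, 5, 7, 2, 3, 7, 1, 5, 2, 1],
    [2, 4, 6, 1, 6, 4, 1, 2, 6, 4, 2, 1],
    [2, 1, 2, 4, 6, 2, 1, 4, 6, 1, 6, 4],
    [4, 6, 1, 6, 4, 1, 2, 6, 4, 2, 1, 2],
    [4, 2, 1, 2, 4, 6, 2, 1, 4, 6, 1, 6],
    [6, 1, 6, 4, 1, 2, 6, 4, 2, 1, 2, 4],
    [6, 4, 2, 1, 2, 4, 6, 2, 1, 4, 6, 1],
    [1, 6, 4, 1, 2, 6, 4, 2, 1, 2, 4, 6],
    [1, 6, 4, 2, 1, 2, 4, 6, 2, 1, 4, 6],
    [6, 4, 1, 2, 6, 4, 2, 1, 2, 4, 6, 1],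
    [6, 1, 6, 4, 2, 1, 2, 4, 6, 2, 1, 4],
    [4, 1, 2, 6, 4, 2, 1, 2, 4, 6, 1, 6],
    [4, 6, 1, 6, 4, 2, 1, 2, 4, 6, 2, 1],
    [1, 2, 6, 4, 2, 1, 2, 4, 6, 1, 6, 4],
    [1, 4, 6, 1, 6, 4, 2, 1, 2, 4, 6, 2],
    [2, 6, 4, 2, 1, 2, 4, 6, 1, 6, 4, 1],
    [2, 1, 4, 6, 1, 6, 4, 2, 1, 2, 4, 6],
    [6, 4, 2, 1, 2, 4, 6, 1, 6, 4, 1, 2],
    [6, 2, 1, 4, 6, 1, 6, 4, 2, 1, 2, 4],
    [4, 2, 1, 2, 4, 6, 1, 6, 4, 1, 2, 6],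
    [4, 6, 2, 1, 4, 6, 1, 6, 4, 2, 1, 2],
    [2, 1, 2, 4, 6, 1, 6, 4, 1, 2, 6, 4],
    [2, 4, 6, 2, 1, 4, 6, 1, 6, 4, 2, 1],
    [1, 2, 4, 6, 1, 6, 4, 1, 2, 6, 4, 2],
    [1, 2, 4, 6, 2, 1, 4, 6, 1, 6, 4, 2],
    [3, 7, 0, 3, 7, 0, 3, 7, 0, 3, 7, 0],
    [3, 0, 7, 3, 0, 7, 3, 0, 7, 3, 0, 7],
    [7, 0, 3, 7, 0, 3, 7, 0, 3, 7, 0, 3],
    [7, 3, 0, 7, 3, 0, 7, 3, 0, 7, 3, 0],
    [0, 3, 7, 0, 3, 7, 0, 3, 7, 0, 3, 7],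
    [0, 7, 3, 0, 7, 3, 0, 7, 3, 0, 7, 3],
    [5, 7, 0, 5, 7, 3, 5, 7, 0, 5, 7, 3],
    [5, 3, 7, 5, 0, 7, 5, 3, 7, 5, 0, 7],
    [7, 0, 5, 7, 3, 5, 7, 0, 5, 7, 3, 5],
    [7, 5, 3, 7, 5, 0, 7, 5, 3, 7, 5, 0],
    [0, 5, 7, 3, 5, 7, 0, 5, 7, 3, 5, 7],
    [0, 7, 5, 3, 7, 5, 0, 7, 5, 3, 7, 5],
    [5, 7, 3, 5, 7, 0, 5, 7, 3, 5, 7, 0],
    [5, 0, 7, 5, 3, 7, 5, 0, 7, 5, 3, 7],
    [7, 3, 5, 7, 0, 5, 7, 3, 5, 7, 0, 5],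
    [7, 5, 0, 7, 5, 3, 7, 5, 0, 7, 5, 3],
    [3, 5, 7, 0, 5, 7, 3, 5, 7, 0, 5, 7],
    [3, 7, 5, 0, 7, 5, 3, 7, 5, 0, 7, 5],
    [4, 6, 2, 6, 4, 2, 0, 3, 7, 2, 3, 0, 7, 3, 5, 0],
    [4, 0, 5, 3, 7, 0, 3, 2, 7, 3, 0, 2, 4, 6, 2, 6],
    [6, 2, 6, 4, 2, 0, 3, 7, 2, 3, 0, 7, 3, 5, 0, 4],
    [6, 4, 0, 5, 3, 7, 0, 3, 2, 7, 3, 0, 2, 4, 6, 2],
    [2, 6, 4, 2, 0, 3, 7, 2, 3, 0, 7, 3, 5, 0, 4, 6],
    [2, 6, 4, 0, 5, 3, 7, 0, 3, 2, 7, 3, 0, 2, 4, 6],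
    [6, 4, 2, 0, 3, 7, 2, 3, 0, 7, 3, 5, 0, 4, 6, 2],
    [6, 2, 6, 4, 0, 5, 3, 7, 0, 3, 2, 7, 3, 0, 2, 4],
    [4, 2, 0, 3, 7, 2, 3, 0, 7, 3, 5, 0, 4, 6, 2, 6],
    [4, 6, 2, 6, 4, 0, 5, 3, 7, 0, 3, 2, 7, 3, 0, 2],
    [2, 0, 3, 7, 2, 3, 0, 7, 3, 5, 0, 4, 6, 2, 6, 4],
    [2, 4, 6, 2, 6, 4, 0, 5, 3, 7, 0, 3, 2, 7, 3, 0],
    [0, 3, 7, 2, 3, 0, 7, 3, 5, 0, 4, 6, 2, 6, 4, 2],
    [0, 2, 4, 6, 2, 6, 4, 0, 5, 3, 7, 0, 3, 2, 7, 3],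
    [3, 7, 2, 3, 0, 7, 3, 5, 0, 4, 6, 2, 6, 4, 2, 0],
    [3, 0, 2, 4, 6, 2, 6, 4, 0, 5, 3, 7, 0, 3, 2, 7],
    [7, 2, 3, 0, 7, 3, 5, 0, 4, 6, 2, 6, 4, 2, 0, 3],
    [7, 3, 0, 2, 4, 6, 2, 6, 4, 0, 5, 3, 7, 0, 3, 2],
    [2, 3, 0, 7, 3, 5, 0, 4, 6, 2, 6, 4, 2, 0, 3, 7],
    [2, 7, 3, 0, 2, 4, 6, 2, 6, 4, 0, 5, 3, 7, 0, 3],
    [3, 0, 7, 3, 5, 0, 4, 6, 2, 6, 4, 2, 0, 3, 7, 2],
    [3, 2, 7, 3, 0, 2, 4, 6, 2, 6, 4, 0, 5, 3, 7, 0],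
    [0, 7, 3, 5, 0, 4, 6, 2, 6, 4, 2, 0, 3, 7, 2, 3],
    [0, 3, 2, 7, 3, 0, 2, 4, 6, 2, 6, 4, 0, 5, 3, 7],
    [7, 3, 5, 0, 4, 6, 2, 6, 4, 2, 0, 3, 7, 2, 3, 0],
    [7, 0, 3, 2, 7, 3, 0, 2, 4, 6, 2, 6, 4, 0, 5, 3],
    [3, 5, 0, 4, 6, 2, 6, 4, 2, 0, 3, 7, 2, 3, 0, 7],
    [3, 7, 0, 3, 2, 7, 3, 0, 2, 4, 6, 2, 6, 4, 0, 5],
    [5, 0, 4, 6, 2, 6, 4, 2, 0, 3, 7, 2, 3, 0, 7, 3],
    [5, 3, 7, 0, 3, 2, 7, 3, 0, 2, 4, 6, 2, 6, 4, 0],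
    [0, 4, 6, 2, 6, 4, 2, 0, 3, 7, 2, 3, 0, 7, 3, 5],
    [0, 5, 3, 7, 0, 3, 2, 7, 3, 0, 2, 4, 6, 2, 6, 4],
    [0, 0],
    [1, 1],
    [2, 2],
    [3, 3],
    [4, 4],
    [5, 5],
    [6, 6],
    [7, 7]]

/-- The subgroup words. -/
def subWords : List (List Nat) := [
    [0],
    [1],
    [2],
    [7],
    [4, 6],
    [3, 4, 1, 6, 3],
    [3, 5, 7, 3]]

/-- The certificate. -/
def cert : StepCert :=
  ⟨relWords, subWords, [0, 1, 2, 3, 4, 5, 6, 7], tabF, tabC, tabZ, tabP, 29763, 84189, 8330, 8⟩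

end Cfsg.Lib.HeldType.Amalgam.He2
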