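import Cfsg.Agent.Lib.HeldType.Amalgam.He2.Cert

/-! Generated checks. -/

set_option autoImplicit false
set_option maxRecDepth 20000

namespace Cfsg.Lib.HeldType.Amalgam.He2

open Cfsg.Lib.CosetEnum

theorem defs_5 : defsOK tabF 4000 20000 = true := by decide +kernel

theorem defs_6 : defsOK tabF 4000 24000 = true := by decide +kernel

theorem defs_7 : defsOK tabF 1763 28000 = true := by decide +kernel

theorem steps_0 : stepsOK relWords subWords tabF tabC 29763 1500 0 = true := by decide +kernel

theorem steps_1 : stepsOK relWords subWords tabF tabC 29763 1500 1500 = true := by decide +kernel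

end Cfsg.Lib.HeldType.Amalgam.He2
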