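import Cfsg.Agent.Lib.HeldType.Amalgam.He2.Check0
import Cfsg.Agent.Lib.HeldType.Amalgam.He2.Check1
import Cfsg.Agent.Lib.HeldType.Amalgam.He2.Check2
import Cfsg.Agent.Lib.HeldType.Amalgam.He2.Check3
import Cfsg.Agent.Lib.HeldType.Amalgam.He2.Check4
import Cfsg.Agent.Lib.HeldType.Amalgam.He2.Check5
import Cfsg.Agent.Lib.HeldType.Amalgam.He2.Check6
import Cfsg.Agent.Lib.HeldType.Amalgam.He2.Check7
import Cfsg.Agent.Lib.HeldType.Amalgam.He2.Check8
import Cfsg.Agent.Lib.HeldType.Amalgam.He2.Check9
import Cfsg.Agent.Lib.HeldType.Amalgam.He2.Check10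
import Cfsg.Agent.Lib.HeldType.Amalgam.He2.Check11
import Cfsg.Agent.Lib.HeldType.Amalgam.He2.Check12
import Cfsg.Agent.Lib.HeldType.Amalgam.He2.Check13
import Cfsg.Agent.Lib.HeldType.Amalgam.He2.Check14
import Cfsg.Agent.Lib.HeldType.Amalgam.Data

/-! Generated certificate: validity. -/

set_option autoImplicit false
set_option maxRecDepth 20000

namespace Cfsg.Lib.HeldType.Amalgam.He2

open Cfsg.Lib.CosetEnum

/-- The relators of this option. -/
def relators : List (List Nat) := relsHe ++ [sharedHe.getD 2 []]

theorem cert_valid : cert.Valid relators where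
  pos := by decide +kernel
  shifts := by decide +kernel
  defs := (defsOK_append (a := 16000) (b := 13763) (defsOK_append (a := 8000) (b := 8000) (defsOK_append (a := 4000) (b := 4000) defs_0 defs_1) (defsOK_append (a := 4000) (b := 4000) defs_2 defs_3)) (defsOK_append (a := 8000) (b := 5763) (defsOK_append (a := 4000) (b := 4000) defs_4 defs_5) (defsOK_append (a := 4000) (b := 1763) defs_6 defs_7)))
  steps := (stepsOK_append (m := 42000) (n := 42189) (stepsOK_append (m := 21000) (n := 21000) (stepsOK_append (m := 10500) (n := 10500) (stepsOK_append (m := 4500) (n := 6000) (stepsOK_append (m := 1500) (n := 3000) steps_0 (stepsOK_append (m := 1500) (n := 1500) steps_1 steps_2)) (stepsOK_append (m := 3000) (n := 3000) (stepsOK_append (m := 1500) (n := 1500) steps_3 steps_4) (stepsOK_append (m := 1500) (n := 1500) steps_5 steps_6))) (stepsOK_append (m := 4500) (n := 6000) (stepsOK_append (m := 1500) (n := 3000) steps_7 (stepsOK_append (m := 1500) (n := 1500) steps_8 steps_9)) (stepsOK_append (m := 3000) (n := 3000) (stepsOK_append (m := 1500) (n := 1500) steps_10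 steps_11) (stepsOK_append (m := 1500) (n := 1500) steps_12 steps_13)))) (stepsOK_append (m := 10500) (n := 10500) (stepsOK_append (m := 4500) (n := 6000) (stepsOK_append (m := 1500) (n := 3000) steps_14 (stepsOK_append (m := 1500) (n := 1500) steps_15 steps_16)) (stepsOK_append (m := 3000) (n := 3000) (stepsOK_append (m := 1500) (n := 1500) steps_17 steps_18) (stepsOK_append (m := 1500) (n := 1500) steps_19 steps_20))) (stepsOK_append (m := 4500) (n := 6000) (stepsOK_append (m := 1500) (n := 3000) steps_21 (stepsOK_append (m := 1500) (n := 1500) steps_22 steps_23)) (stepsOK_append (m := 3000) (n := 3000) (stepsOK_append (m := 1500) (n := 1500) steps_24 steps_25) (stepsOK_append (m := 1500) (n := 1500) steps_26 steps_27))))) (stepsOK_append (m := 21000) (n := 21189) (stepsOK_append (m := 10500) (n := 10500) (stepsOK_append (m := 4500) (n := 6000) (stepsOK_append (m := 1500) (n := 3000) steps_28 (stepsOK_append (m := 1500) (n := 1500) steps_29 steps_30)) (stepsOK_append (m := 3000) (n := 3000) (stepsOK_append (m := 1500) (n := 1500) steps_31 steps_32) (stepsOK_append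 (m := 1500) (n := 1500) steps_33 steps_34))) (stepsOK_append (m := 4500) (n := 6000) (stepsOK_append (m := 1500) (n := 3000) steps_35 (stepsOK_append (m := 1500) (n := 1500) steps_36 steps_37)) (stepsOK_append (m := 3000) (n := 3000) (stepsOK_append (m := 1500) (n := 1500) steps_38 steps_39) (stepsOK_append (m := 1500) (n := 1500) steps_40 steps_41)))) (stepsOK_append (m := 10500) (n := 10689) (stepsOK_append (m := 4500) (n := 6000) (stepsOK_append (m := 1500) (n := 3000) steps_42 (stepsOK_append (m := 1500) (n := 1500) steps_43 steps_44)) (stepsOK_append (m := 3000) (n := 3000) (stepsOK_append (m := 1500) (n := 1500) steps_45 steps_46) (stepsOK_append (m := 1500) (n := 1500) steps_47 steps_48))) (stepsOK_append (m := 6000) (n := 4689) (stepsOK_append (m := 3000) (n := 3000) (stepsOK_append (m := 1500) (n := 1500) steps_49 steps_50) (stepsOK_append (m := 1500) (n := 1500) steps_51 steps_52)) (stepsOK_append (m := 3000) (n := 1689) (stepsOK_append (m := 1500) (n := 1500) steps_53 steps_54) (stepsOK_append (m := 1500) (n := 189) steps_55 steps_56))))))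
  closed := (closedOK_append (a := 3600) (b := 4730) (closedOK_append (a := 1200) (b := 2400) closed_0 (closedOK_append (a := 1200) (b := 1200) closed_1 closed_2)) (closedOK_append (a := 2400) (b := 2330) (closedOK_append (a := 1200) (b := 1200) closed_3 closed_4) (closedOK_append (a := 1200) (b := 1130) closed_5 closed_6)))

end Cfsg.Lib.HeldType.Amalgam.He2
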