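import Cfsg.Agent.Lib.HeldType.Amalgam.He2.ModelCheck0
import Cfsg.Agent.Lib.HeldType.Amalgam.He2.ModelCheck1
import Cfsg.Agent.Lib.HeldType.Amalgam.He2.ModelCheck2
import Cfsg.Agent.Lib.HeldType.Amalgam.He2.ModelCheck3

/-! Generated checks: assembled. -/

set_option autoImplicit false
set_option maxRecDepth 20000

namespace Cfsg.Lib.HeldType.Amalgam.He2

open Cfsg.Lib.CosetEnum

theorem permP_ok : permOK tabP 8 8330 relators 8330 0 = true :=
  (permOK_append (a := 4500) (b := 3830) (permOK_append (a := 1500) (b := 3000) permP_0 (permOK_append (a := 1500) (b := 1500) permP_1 permP_2)) (permOK_append (a := 1500) (b := 2330) permP_3 (permOK_append (a := 1500) (b := 830) permP_4 permP_5)))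

theorem permQ_ok : permOK tabQ 7 8330 (HePres.numbering.pairs ++ HePres.extra) 8330 0 = true :=
  (permOK_append (a := 4500) (b := 3830) (permOK_append (a := 1500) (b := 3000) permQ_0 (permOK_append (a := 1500) (b := 1500) permQ_1 permQ_2)) (permOK_append (a := 1500) (b := 2330) permQ_3 (permOK_append (a := 1500) (b := 830) permQ_4 permQ_5)))

theorem down_ok : wordsOK tabP tabQ 8 7 down 8330 0 = true :=
  (wordsOK_append (a := 4200) (b := 4130) (wordsOK_append (a := 2100) (b := 2100) down_0 down_1) (wordsOK_append (a := 2100) (b := 2030) down_2 down_3))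

theorem up_ok : wordsOK tabQ tabP 7 8 up 8330 0 = true :=
  (wordsOK_append (a := 4200) (b := 4130) (wordsOK_append (a := 2100) (b := 2100) up_0 up_1) (wordsOK_append (a := 2100) (b := 2030) up_2 up_3))

theorem tree_ok : treeOK tabP tabF 8 (8330 - 1) 0 = true := by decide +kernel

end Cfsg.Lib.HeldType.Amalgam.He2
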