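import Cfsg.Agent.Lib.CosetEnum.Groups.HeSimple
import Cfsg.Agent.Lib.HeldType.Amalgam.Bridge
import Cfsg.Agent.Lib.HeldType.Amalgam.He2.ModelValid

/-!
# The presented Held group realises the amalgam
-/

set_option autoImplicit false
set_option maxRecDepth 100000

namespace Cfsg.Lib.HeldType.Amalgam.He2

open Cfsg.Lib.CosetEnum Cfsg.Spor

attribute [local irreducible] tabP tabQ tabF

theorem down_lt : (down.all fun r => r.all fun i => Nat.blt i 8) = true ∧
    (up.all fun r => r.all fun i => Nat.blt i 7) = true ∧ down.length = 7 ∧ up.length = 8 := by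
  decide +kernel

theorem fix_checked : (subWords.all fun u =>
    (u.all fun g => Nat.blt g 8) && Nat.beq (twalk tabP 8 u 0) 0) = true := by decide +kernel

theorem z_moves : twalk tabP 8 zWord 5000 ≠ 5000 := by decide +kernel

theorem z_noncentral :
    twalk tabP 8 (6 :: zWord) 5000 ≠ twalk tabP 8 (zWord ++ [6]) 5000 := by decide +kernel

theorem exists_model : ∃ (y : ℕ → He) (π : He →* Equiv.Perm (Fin 8330)),
    (∀ i, y i * y i = 1) ∧ Subgroup.closure (y '' {i | i < 8}) = ⊤ ∧
      (∀ r ∈ relators, wordVal y r = 1) ∧ (∀ u ∈ subWords, π (wordVal y u) 0 = 0) ∧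
      (∀ j : Fin 8330, ∃ a, π a 0 = j) ∧ wv y zWord ≠ 1 ∧ ∃ q, wv y zWord * q ≠ q * wv y zWord := by

  let t : ℕ → Equiv.Perm (Fin 8330) := tperm tabP 8 8330
  let s : ℕ → Equiv.Perm (Fin 8330) := tperm tabQ 7 8330
  have ht : ∀ i, t i * t i = 1 := tperm_mul_self _ _ _
  have hs : ∀ i, s i * s i = 1 := tperm_mul_self _ _ _
  have hk : HePres.numbering.k ≤ eps := by decide
  have hsrel : ∀ r ∈ HePres.numbering.pairs ++ HePres.extra, wordVal s r = 1 := fun r hr =>
    wordVal_tperm_eq_one permQ_ok (by decide) hr
  let π : He →* Equiv.Perm (Fin 8330) :=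
    PresentedGroup.toGroup (HePres.numbering.lift_eq_one hk s (HePres.map_extra s hs) hsrel)
  have hπ : ∀ i < 7, π (HePres.numbering.gens He.extra i) = s i := fun i hi => by
    rw [Numbering.gens, if_pos (show i < HePres.numbering.k from hi)]
    exact (PresentedGroup.toGroup.of _).trans (by rw [HePres.numbering.num_letter i hi])
  have hπw : ∀ w : List ℕ, (∀ i ∈ w, i < 7) →
      π (wordVal (HePres.numbering.gens He.extra) w) = wordVal s w := by
    intro w
    induction w with
    | nil => intro _; exact map_one π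
    | cons i w ih =>
      intro hw
      have hi := hw i List.mem_cons_self
      rw [wordVal, wordVal, map_mul, ih fun a ha => hw a (List.mem_cons_of_mem _ ha)]
      congr 1
      rw [gen, gen, if_neg (Nat.ne_of_lt (lt_trans hi (by decide))),
        if_neg (Nat.ne_of_lt (lt_trans hi (by decide))), hπ i hi]
  have hlt : ∀ {W : List (List ℕ)} {k : ℕ}, (W.all fun r => r.all fun i => Nat.blt i k) = true →
      ∀ g, ∀ l ∈ W.getD g [], l < k := by
    intro W k h g l hl
    rw [List.getD_eq_getElem?_getD] at hl
    rcases Nat.lt_or_ge g W.length with hg | hg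
    · rw [List.getElem?_eq_getElem hg, Option.getD_some] at hl
      have := List.all_eq_true.1 (List.all_eq_true.1 h _ (List.getElem_mem hg)) l hl
      simpa [Nat.blt_eq] using this
    · simp [List.getElem?_eq_none hg] at hl
  let y : ℕ → He := fun i =>
    if i < 8 then wordVal (HePres.numbering.gens He.extra) (up.getD i []) else 1
  have hy : ∀ i < 8, π (y i) = t i := fun i hi => by
    simp only [y, if_pos hi]
    rw [hπw _ (hlt down_lt.2.1 i)]
    exact (tperm_eq_wordVal permQ_ok permP_ok (by decide) up_ok hi (hlt down_lt.2.1 i)).symm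
  have hyw : ∀ w : List ℕ, (∀ i ∈ w, i < 8) → π (wordVal y w) = wordVal t w := by
    intro w
    induction w with
    | nil => intro _; exact map_one π
    | cons i w ih =>
      intro hw
      have hi := hw i List.mem_cons_self
      rw [wordVal, wordVal, map_mul, ih fun a ha => hw a (List.mem_cons_of_mem _ ha)]
      congr 1
      rw [gen, gen, if_neg (Nat.ne_of_lt (lt_trans hi (by decide))),
        if_neg (Nat.ne_of_lt (lt_trans hi (by decide))), hy i hi]
  have htrans : ∀ j : Fin 8330, ∃ a, π a 0 = j := by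
    intro j
    obtain ⟨a, -, ha⟩ := exists_smul_eq y π permP_ok hy tree_ok (by decide) j.1 j.2
    exact ⟨a, ha⟩
  have : IsSimpleGroup He := HePres.isHe.1
  have hinj : Function.Injective π := by
    rw [← MonoidHom.ker_eq_bot_iff]
    refine (π.normal_ker.eq_bot_or_eq_top).resolve_right fun h => ?_
    obtain ⟨a, ha⟩ := htrans 1
    rw [π.mem_ker.1 (h ▸ Subgroup.mem_top a)] at ha
    exact absurd (congrArg Fin.val ha) (by decide)
  have hy2 : ∀ i, y i * y i = 1 := by
    intro i
    by_cases hi : i < 8
    · exact hinj (by rw [map_mul, map_one, hy i hi, ht])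
    · simp only [y, if_neg hi, mul_one]
  have hrel : ∀ r ∈ relators, wordVal y r = 1 := fun r hr => by
    have hl : ∀ i ∈ r, i < 8 :=
      ((permOK_get permP_ok 0 (Nat.zero_le _) (by omega)).2 r hr).1
    exact hinj (by rw [hyw r hl, wordVal_tperm_eq_one permP_ok (by decide) hr, map_one])
  refine ⟨y, π, hy2, ?_, hrel, ?_, htrans, ?_, ?_⟩
  · refine top_le_iff.1 ?_
    rw [← HePres.numbering.closure_gens He.extra, Subgroup.closure_le]
    rintro _ ⟨i, hi, rfl⟩
    have hi7 : i < 7 := hi
    have e : HePres.numbering.gens He.extra i = wordVal y (down.getD i []) := hinj (by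
      rw [hπ i hi7, hyw _ (hlt down_lt.1 i)]
      exact tperm_eq_wordVal permP_ok permQ_ok (by decide) down_ok hi7 (hlt down_lt.1 i))
    rw [e]
    have hm : ∀ w : List ℕ, (∀ l ∈ w, l < 8) →
        wordVal y w ∈ Subgroup.closure (y '' {i | i < 8}) := by
      intro w
      induction w with
      | nil => intro _; exact one_mem _
      | cons l w ih =>
        intro hw
        rw [wordVal, gen, if_neg (Nat.ne_of_lt (lt_trans (hw l List.mem_cons_self) (by decide)))]
        exact mul_mem (ih fun a ha => hw a (List.mem_cons_of_mem _ ha))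
          (Subgroup.subset_closure ⟨l, hw l List.mem_cons_self, rfl⟩)
    exact hm _ (hlt down_lt.1 i)
  · intro u hu
    have h := List.all_eq_true.1 fix_checked u hu
    rw [Bool.and_eq_true, List.all_eq_true, Nat.beq_eq] at h
    have hl : ∀ i ∈ u, i < 8 := fun i hi => by simpa [Nat.blt_eq] using h.1 i hi
    rw [hyw u hl]
    exact Fin.ext (by rw [wordVal_tperm permP_ok (by decide) u hl]; exact h.2)
  all_goals
    have hz : π (wv y zWord) = (wordVal t zWord)⁻¹ := by
      rw [← hyw zWord (by decide), wordVal_eq_inv hy2 zWord (by decide), map_inv, inv_inv]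
  · intro h
    rw [h, map_one, eq_comm, inv_eq_one] at hz
    refine z_moves ?_
    have h1 := congrArg (fun p : Equiv.Perm (Fin 8330) => (p (⟨5000, by omega⟩ : Fin 8330)).1) hz
    rw [wordVal_tperm permP_ok (by decide : 8 ≤ eps) zWord (by decide)] at h1
    exact h1
  · refine ⟨y 6, fun hc => z_noncentral ?_⟩
    have h4 := congrArg π hc
    rw [map_mul, map_mul, hz, hy 6 (by omega)] at h4
    rw [inv_mul_eq_iff_eq_mul, ← mul_assoc, eq_mul_inv_iff_mul_eq] at h4
    have e1 : wordVal t (6 :: zWord) = wordVal t (zWord ++ [6]) := by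
      rw [wordVal_append, wordVal, wordVal, wordVal, one_mul, gen, if_neg (by decide : (6 : ℕ) ≠ eps)]
      exact h4.symm
    have h5 := congrArg (fun p : Equiv.Perm (Fin 8330) => (p (⟨5000, by omega⟩ : Fin 8330)).1) e1
    rw [wordVal_tperm permP_ok (by decide : 8 ≤ eps) (6 :: zWord) (by decide),
      wordVal_tperm permP_ok (by decide : 8 ≤ eps) (zWord ++ [6]) (by decide)] at h5
    exact h5

end Cfsg.Lib.HeldType.Amalgam.He2
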