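import Cfsg.Agent.Lib.HeldType.Amalgam.He2.TabQ0
import Cfsg.Agent.Lib.HeldType.Amalgam.He2.TabQ1
import Cfsg.Agent.Lib.CosetEnum.Defs

/-! Generated model data. -/

set_option autoImplicit false
set_option maxRecDepth 20000

namespace Cfsg.Lib.HeldType.Amalgam.He2

open Cfsg.Lib.CosetEnum

/-- The seven generators of the presentation on the points. -/
def tabQ : Tab :=
  (.node 448 (.node 192 (.node 64 tabQ_0 (.node 64 tabQ_1 tabQ_2)) (.node 128 (.node 64 tabQ_3 tabQ_4) (.node 64 tabQ_5 tabQ_6))) (.node 256 (.node 128 (.node 64 tabQ_7 tabQ_8) (.node 64 tabQ_9 tabQ_10)) (.node 128 (.node 64 tabQ_11 tabQ_12) (.node 64 tabQ_13 tabQ_14))))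

/-- The seven generators as words in the eight letters. -/
def down : List (List Nat) := [
    [3],
    [0, 1, 3, 0, 3],
    [0, 1, 4, 1, 0, 3],
    [5, 1, 4, 6, 2, 7, 2, 6, 2, 3, 2, 3, 6, 2, 7, 2, 6, 4, 1, 5],
    [2, 3, 2, 3],
    [0, 2, 0, 3],
    [0, 3, 0, 3]]

/-- The eight letters as words in the seven generators. -/
def up : List (List Nat) := [
    [3, 4, 6, 3, 2, 1, 5, 3, 4, 6, 3, 2, 5, 3, 6, 4, 3, 5, 4, 1, 2, 1],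
    [2, 1, 3, 4, 6, 3, 2, 1, 3, 4, 3, 6, 3, 2],
    [0, 1, 6, 3, 2, 3, 5, 3, 2, 3, 2, 3, 5, 3, 2, 3, 1],
    [0],
    [1, 4, 3, 2, 5, 3, 2, 3, 2, 5, 3, 2, 3, 5, 2, 3, 2, 1],
    [3, 4, 6, 3, 2, 1, 3, 6, 5, 3, 2, 4, 3, 5, 6, 3, 1, 2, 3, 6, 3, 4, 3],
    [1, 2, 3, 6, 3, 2, 1, 4, 3, 2, 1, 6, 5, 3, 2, 3, 5, 3, 2, 3, 6, 1, 2, 3, 2, 3, 4, 6, 3, 2, 1, 3, 5, 3, 2, 3, 2, 4, 6, 3, 2, 3, 5, 3, 1, 2, 3, 6, 4, 3],
    [3, 4, 6, 3, 2, 1, 3, 5, 3, 2, 3, 2, 4, 6, 3, 2, 3, 5, 3, 1, 2, 3, 6, 4, 3]]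

end Cfsg.Lib.HeldType.Amalgam.He2
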