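import Cfsg.Agent.Lib.HeldType.Amalgam.He2.Model
import Cfsg.Agent.Lib.HeldType.Amalgam.He2.Cert
import Cfsg.Agent.Lib.HeldType.Amalgam.He2.Valid
import Cfsg.Agent.Lib.CosetEnum.Groups.He
import Cfsg.Agent.Lib.HeldType.Amalgam.Table

/-! Generated checks. -/

set_option autoImplicit false
set_option maxRecDepth 20000

namespace Cfsg.Lib.HeldType.Amalgam.He2

open Cfsg.Lib.CosetEnum

theorem permP_0 : permOK tabP 8 8330 relators 1500 0 = true := by decide +kernel

theorem permP_1 : permOK tabP 8 8330 relators 1500 1500 = true := by decide +kernel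

theorem permP_2 : permOK tabP 8 8330 relators 1500 3000 = true := by decide +kernel

theorem permP_3 : permOK tabP 8 8330 relators 1500 4500 = true := by decide +kernel

theorem permP_4 : permOK tabP 8 8330 relators 1500 6000 = true := by decide +kernel

end Cfsg.Lib.HeldType.Amalgam.He2
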